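import Cfsg.Agent.Lib.Chevalley.TwistE6Five.Levi

/-!
Gradings, the reflection of the orbit, and normal forms relative to the short root parabolic.
-/

set_option autoImplicit false
set_option maxRecDepth 20000
set_option Elab.async false

namespace CfsgLib.Chevalley.TwistE6Five

open Tbl

section Grading

variable {K : Type*} [Field K]

/-- A function on the roots compatible with sums and negatives. -/
structure Grad (f : ℕ → ℤ) : Prop where
  add : ∀ r < T6.n, ∀ s < T6.n, ∀ u, (∀ j < T6.rank, T6.co u j = T6.co r j + T6.co s j) → f u = f r + f s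
  neg : ∀ r < T6.n, f (T6.neg r) = -f r

/-- The grading of the adjoint basis by such a function. -/
def grI (f : ℕ → ℤ) : T6.I → ℤ := Sum.elim (fun _ => 0) fun v => f v.val

theorem grad_D : Grad D :=
  ⟨fun a _ b _ u hu => by
    rw [D_add (i := 1) (j := 1) (r := a) (s := b) (fun k hk => by rw [hu k hk]; ring)]; ring, D_neg⟩

theorem xU_up {f : ℕ → ℤ} (hf : Grad f) {r : ℕ} (hr : r < T6.n) (h : 0 ≤ f r) (t : K) :
    T6.xU K r t ∈ T6.upSub K (grI f) := by
  have key : ∀ t : K, ∀ row col, grI f row < grI f col →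
      ((T6.xU K r t : GL T6.I K) : Matrix T6.I T6.I K) row col = 0 := by
    intro t row col hlt
    rw [xU_val Data.E6.valid hr, X, Matrix.sum_apply]
    refine Finset.sum_eq_zero fun k _ => ?_
    simp only [Matrix.smul_apply, castM_apply, smul_eq_mul]
    by_cases hA : T6.A r k row col = 0
    · simp [hA]
    · exfalso
      have e : grI f row = (k : ℤ) * f r + grI f col := A_degree Data.E6.valid hf.add hf.neg hr k row col hA
      have : (0 : ℤ) ≤ (k : ℤ) * f r := mul_nonneg (by positivity) h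
      omega
  refine ⟨key t, ?_⟩
  rw [xU_inv Data.E6.valid hr]
  exact key (-t)

theorem xU_block {f : ℕ → ℤ} (hf : Grad f) {r : ℕ} (hr : r < T6.n) (h : f r = 0) (t : K) :
    T6.xU K r t ∈ T6.blockSub K (grI f) := by
  have key : ∀ t : K, ∀ row col, grI f row ≠ grI f col →
      ((T6.xU K r t : GL T6.I K) : Matrix T6.I T6.I K) row col = 0 := by
    intro t row col hne
    rw [xU_val Data.E6.valid hr, X, Matrix.sum_apply]
    refine Finset.sum_eq_zero fun k _ => ?_
    simp only [Matrix.smul_apply, castM_apply, smul_eq_mul]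
    by_cases hA : T6.A r k row col = 0
    · simp [hA]
    · exfalso
      have e : grI f row = (k : ℤ) * f r + grI f col := A_degree Data.E6.valid hf.add hf.neg hr k row col hA
      rw [h, mul_zero, zero_add] at e
      exact hne e
  refine ⟨key t, ?_⟩
  rw [xU_inv Data.E6.valid hr]
  exact key (-t)

theorem diag_up (f : ℕ → ℤ) {h : GL T6.I K} (hh : h ∈ T6.datum.diagonalSubgroup K) :
    h ∈ T6.upSub K (grI f) := by
  obtain ⟨χ, -, rfl⟩ := diag_exists_char Data.E6.valid hh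
  have key : ∀ ψ : ℕ → Kˣ, ∀ row col, grI f row < grI f col →
      ((T6.dU ψ : GL T6.I K) : Matrix T6.I T6.I K) row col = 0 := fun ψ row col hne => by
    rw [dU_val]; exact Matrix.diagonal_apply_ne _ fun e => hne.ne (by rw [e])
  exact ⟨key χ, by rw [dU_inv]; exact key _⟩

theorem mono_up {f : ℕ → ℤ} (hf : Grad f) {n : GL T6.I K} {w : Equiv.Perm (Fin T6.n)} (hm : T6.Mono n w)
    (hn : n ∈ T6.upSub K (grI f)) (r : Fin T6.n) : f (w r).val = f r.val := by
  have key : ∀ s : Fin T6.n, f s.val ≤ f (w s).val := fun s => by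
    by_contra hlt
    exact hm.entry_ne s (hn.1 _ _ (not_le.mp hlt))
  refine le_antisymm ?_ (key r)
  have h2 := key (T6.negF r)
  rw [hm.negEq] at h2
  have e1 : f (T6.negF r).val = -f r.val := hf.neg r.val r.2
  have e2 : f (T6.negF (w r)).val = -f (w r).val := hf.neg (w r).val (w r).2
  omega

theorem pos_le_borel' {P : ℕ → Prop} (hP : ∀ r < T6.n, P r → T6.half ≤ r) :
    T6.rootGen K P ≤ T6.datum.borelSubgroup K :=
  rootGen_le fun r hr h t => pos_le_borel Data.E6.valid hr (hP r hr h) t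

/-- Elements in a common double coset of the Borel subgroup have the same permutation. -/
theorem cell_eq {a b c d n n' : GL T6.I K} {w w' : Equiv.Perm (Fin T6.n)}
    (ha : a ∈ T6.datum.borelSubgroup K) (hb : b ∈ T6.datum.borelSubgroup K)
    (hc : c ∈ T6.datum.borelSubgroup K) (hd : d ∈ T6.datum.borelSubgroup K)
    (hn : n ∈ T6.datum.monomialSubgroup K) (hn' : n' ∈ T6.datum.monomialSubgroup K)
    (hm : T6.Mono n w) (hm' : T6.Mono n' w') (e : a * n * b = c * n' * d) : w = w' := by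
  have hT := Data.E6.valid
  have hC := Data.E6.chkComm
  have key : ∀ {a b n : GL T6.I K} {w : Equiv.Perm (Fin T6.n)}, a ∈ T6.datum.borelSubgroup K →
      b ∈ T6.datum.borelSubgroup K → n ∈ T6.datum.monomialSubgroup K → T6.Mono n w →
      ∃ a' ∈ T6.datum.borelSubgroup K, ∃ u ∈ T6.rootGen K (T6.negSet w), a * n * b = a' * n * u := by
    intro a b n w ha hb hn hm
    obtain ⟨x, hx, h, hh, rfl⟩ := (mem_borel_iff hT).mp hb
    have hx' : h⁻¹ * x * h ∈ T6.rootGen K (fun r => T6.half ≤ r) := by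
      rw [posUnipotent_rootGen hT] at hx
      have := (Subgroup.mem_normalizer_iff.mp (diag_le_normalizer hT (fun r => T6.half ≤ r) (inv_mem hh)) x).mp hx
      rwa [inv_inv] at this
    obtain ⟨p, hp, q, hq, hpq⟩ := exists_pos_factor hT hC w hx'
    refine ⟨a * (n * h * n⁻¹) * (n * p * n⁻¹), mul_mem (mul_mem ha (Subgroup.mem_sup_right (conj_diag hT hn hh)))
      (pos_le_borel' (fun _ _ h => h) (conj_mem_rootGen hT hm (fun r ⟨_, _, h⟩ => h) hp)), q, hq, ?_⟩
    calc a * n * (x * h) = a * (n * h * n⁻¹) * n * (h⁻¹ * x * h) := by group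
      _ = _ := by rw [hpq]; group
  obtain ⟨a', ha', u, hu, e1⟩ := key ha hb hn hm
  obtain ⟨c', hc', v, hv, e2⟩ := key hc hd hn' hm'
  obtain ⟨h1, -⟩ := canonical_unique hT hC ha' hc' hn hn' hm hu hv (e1 ▸ e2 ▸ e)
  exact inv_mul_eq_one.mp ((hm.inv.mul hm').unique (mono_diag hT h1))

end Grading

variable {K : Type*} [Field K] [Finite K] (hK : Nat.card K = 4)
include hK

/-- The orbit data. -/
noncomputable abbrev setup6 : AbSetup T6 K := Twist.E6.setup Nat.prime_two.isPrimePow (hK2 hK)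

/-- The index of the short orbit. -/
noncomputable def sIdx : Fin (setup6 hK).O.o := ⟨3, by show 3 < 4; norm_num⟩

/-- The reflection of the short orbit on the roots. -/
noncomputable def sW : Equiv.Perm (Fin T6.n) := (tw hK).wJ (setup6 hK).O (sIdx hK)

theorem sW_val (r : Fin T6.n) : (sW hK r).val = T6.actWord [2, 4] r.val :=
  (setup6 hK).D.orbits_wJ (setup6 hK).hO (sIdx hK) r

theorem sW_mem : sW hK ∈ (tw hK).W1 := (tw hK).wJ_mem _ _

theorem sW_sW (r : Fin T6.n) : sW hK (sW hK r) = r := (tw hK).wJ_wJ _ _ r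

theorem sW_inv : (sW hK)⁻¹ = sW hK := (tw hK).wJ_inv _ _

omit [Finite K] hK in
theorem sW_facts : ∀ r < 72,
    ((36 ≤ r ∧ T6.actWord [2, 4] r < 36) ↔ (r = 42 ∨ r = 37)) ∧
    ((T6.actWord [2, 4] r = 29 ∨ T6.actWord [2, 4] r = 34) ↔ (r = 42 ∨ r = 37)) ∧
    ((r < 36 ∧ 36 ≤ T6.actWord [2, 4] r) ↔ (r = 29 ∨ r = 34)) := by
  decide +kernel

omit [Finite K] hK in
theorem graph_42 : Data.E6.graph.ρ 42 = 37 ∧ Data.E6.graph.ρ 37 = 42 := ⟨graph_orb.1, graph_orb.2.1⟩

theorem rho42 : (tw hK).ρ ⟨42, by decide⟩ = (⟨37, by decide⟩ : Fin T6.n) := Fin.ext graph_42.1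

theorem rho37 : (tw hK).ρ ⟨37, by decide⟩ = (⟨42, by decide⟩ : Fin T6.n) := Fin.ext graph_42.2

theorem sN_mem : sN hK ∈ Lsub hK := (mem_Lsub hK).mpr ⟨_, rfl⟩

theorem sN_eq : sN hK = T6.nU K 42 1 * T6.nU K 37 1 := by
  have hFr : Fr hK SL2.wn = SL2.wn := by
    rw [wn_eq hK, map_mul, map_mul, Fr_ux, Fr_lx, one_pow]
  have hphi : ∀ {a : ℕ} (ha : a < T6.n), phi K ha SL2.wn = T6.nU K a 1 := by
    intro a ha
    show (sl2Data Data.E6.valid ha).map SL2.wn = _
    have := (sl2Data (F := K) Data.E6.valid ha).map_wn_mul 1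
    rw [mul_one, SL2.Data.map_one, mul_one] at this
    exact this
  rw [sN, lev_apply, hFr, Phi_apply, hphi, hphi]

theorem sN_N : sN hK ∈ T6.datum.monomialSubgroup K := by
  rw [sN_eq]
  exact mul_mem (nU_simple_mem_N Data.E6.valid (⟨2, by decide⟩ : Fin T6.rank))
    (nU_simple_mem_N Data.E6.valid (⟨4, by decide⟩ : Fin T6.rank))

theorem sN_mono : T6.Mono (sN hK) (sW hK) := by
  have hT := Data.E6.valid
  have h := (mono_nU_simple (F := K) hT (⟨2, by decide⟩ : Fin T6.rank)).mul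
    (mono_nU_simple (F := K) hT (⟨4, by decide⟩ : Fin T6.rank))
  have e : sW hK = T6.refP hT (⟨2, by decide⟩ : Fin T6.rank) * T6.refP hT (⟨4, by decide⟩ : Fin T6.rank) := by
    refine Equiv.ext fun r => Fin.ext ?_
    rw [sW_val, Equiv.Perm.mul_apply, refP_apply, refP_apply]
    rfl
  rw [e, sN_eq]
  exact h

theorem sN_fix : sN hK ∈ (tw hK).fix := (sN_mem hK).1

theorem negSet_s {r : ℕ} : T6.negSet (sW hK) r ↔ (r = 42 ∨ r = 37) := by
  constructor
  · rintro ⟨hr, h1, h2⟩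
    rw [sW_val] at h2
    exact (sW_facts r hr).1.mp ⟨h1, h2⟩
  · intro h
    have hr : r < T6.n := by rcases h with rfl | rfl <;> decide
    obtain ⟨h1, h2⟩ := (sW_facts r hr).1.mpr h
    exact ⟨hr, h1, by rw [sW_val]; exact h2⟩

theorem posSet_s_le : T6.rootGen K (T6.posSet (sW hK)) ≤ Q K 1 := by
  refine rootGen_mono fun r hr ⟨h, h1, h2⟩ => ⟨h1, ?_⟩
  have ho : ¬ Orb r := by
    rintro (rfl | rfl | rfl | rfl)
    · exact absurd ((negSet_s hK).mpr (Or.inl rfl)).2.2 (not_lt.mpr h2)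
    · exact absurd ((negSet_s hK).mpr (Or.inr rfl)).2.2 (not_lt.mpr h2)
    · exact absurd h1 (by decide)
    · exact absurd h1 (by decide)
  have := (D_facts r hr ho).1.mp h1
  push_cast
  omega

theorem negSet_s_le {x : GL T6.I K} (hx : x ∈ T6.rootGen K (T6.negSet (sW hK))) (hf : x ∈ (tw hK).fix) :
    x ∈ Lsub hK :=
  Subgroup.mem_inf.mpr ⟨hf, rootGen_mono (fun r _ h => by
    rcases (negSet_s hK).mp h with rfl | rfl
    · exact Or.inl rfl
    · exact Or.inr (Or.inl rfl)) hx⟩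

theorem orb_block {l : GL T6.I K} (hl : l ∈ T6.rootGen K Orb) : l ∈ T6.blockSub K (grI D) :=
  (rootGen_le fun r hr h t => xU_block grad_D hr (D_orb r hr h) t : T6.rootGen K Orb ≤ _) hl

/-- The short root parabolic inside the fixed points. -/
noncomputable def Psub : Subgroup (GL T6.I K) := (tw hK).fix ⊓ T6.upSub K (grI D)

theorem L_le_P : Lsub hK ≤ Psub hK := fun g hg =>
  Subgroup.mem_inf.mpr ⟨hg.1, (rootGen_le fun r hr h t => xU_up grad_D hr (D_orb r hr h).ge t :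
    T6.rootGen K Orb ≤ T6.upSub K (grI D)) hg.2⟩

theorem pos_le_P {x : GL T6.I K} (hx : x ∈ T6.rootGen K (fun r => T6.half ≤ r)) (hf : x ∈ (tw hK).fix) :
    x ∈ Psub hK :=
  Subgroup.mem_inf.mpr ⟨hf, (rootGen_le fun r hr h t => xU_up grad_D hr (by
    by_cases ho : Orb r
    · exact (D_orb r hr ho).ge
    · exact ((D_facts r hr ho).1.mp h).le) t : T6.rootGen K (fun r => T6.half ≤ r) ≤ T6.upSub K (grI D)) hx⟩

/-- The two cells of the parabolic. -/
theorem P_cases {y : GL T6.I K} (hy : y ∈ Psub hK) :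
    y ∈ T6.datum.borelSubgroup K ∨
      ∃ a ∈ T6.datum.borelSubgroup K, ∃ b ∈ T6.datum.borelSubgroup K, y = a * sN hK * b := by
  have hT := Data.E6.valid
  obtain ⟨hf, hup⟩ := Subgroup.mem_inf.mp hy
  obtain ⟨a, ha, haf, n, hn, -, w, hw, hm, u, hu, huf, e⟩ := (tw hK).fix_canonical hf
  have hu' : u ∈ T6.rootGen K (fun r => T6.half ≤ r) := rootGen_mono (fun r _ ⟨_, h, _⟩ => h) hu
  have haU := (Subgroup.mem_inf.mp (pos_le_P hK ha haf)).2
  have huU := (Subgroup.mem_inf.mp (pos_le_P hK hu' huf)).2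
  have hnU : n ∈ T6.upSub K (grI D) := by
    rw [show n = a⁻¹ * y * u⁻¹ by rw [e]; group]
    exact mul_mem (mul_mem (inv_mem haU) hup) (inv_mem huU)
  have hkeep : w ∈ (tw hK).keepSet (setup6 hK).O (sIdx hK) := by
    intro r hr hr2
    have ho : ¬ (r.val = 42 ∨ r.val = 37) := fun h => by
      exact absurd ((negSet_s hK).mpr h).2.2 (not_lt.mpr hr2)
    have ho' : ¬ Orb r.val := by
      rintro (h | h | h | h)
      · exact ho (Or.inl h)
      · exact ho (Or.inr h)
      · have h3 : 36 ≤ r.val := hr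
        omega
      · have h3 : 36 ≤ r.val := hr
        omega
    have hD := mono_up grad_D hm hnU r
    have hpos : 0 < D r.val := (D_facts r.val r.2 ho').1.mp hr
    have ho2 : ¬ Orb (w r).val := fun h => by
      rw [D_orb _ (w r).2 h] at hD
      omega
    have hwr : 36 ≤ (w r).val := (D_facts _ (w r).2 ho2).1.mpr (by omega)
    refine ⟨hwr, not_lt.mp fun hlt => ?_⟩
    have hlt' : (sW hK (w r)).val < 36 := hlt
    rw [sW_val] at hlt'
    rcases (sW_facts _ (w r).2).1.mp ⟨hwr, hlt'⟩ with h | h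
    · exact ho2 (Or.inl h)
    · exact ho2 (Or.inr (Or.inl h))
  have hA : ∀ {x : GL T6.I K}, x ∈ T6.rootGen K (fun r => T6.half ≤ r) → x ∈ T6.datum.borelSubgroup K :=
    fun {x} hx => pos_le_borel' (fun _ _ h => h) hx
  rcases (tw hK).keepSet_W1 (setup6 hK).O hw hkeep with rfl | rfl
  · refine Or.inl ?_
    rw [e]
    exact mul_mem (mul_mem (hA ha) (Subgroup.mem_sup_right (mem_diag_of_mono_one hT hn hm))) (hA hu')
  · refine Or.inr ⟨a, hA ha, (sN hK)⁻¹ * n * u, ?_, by rw [e]; group⟩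
    refine mul_mem (Subgroup.mem_sup_right (mem_diag_of_mono_one hT (mul_mem (inv_mem (sN_N hK)) hn) ?_)) (hA hu')
    have := (sN_mono hK).inv.mul hm
    rwa [show (sW hK)⁻¹ * (tw hK).wJ (setup6 hK).O (sIdx hK) = 1 from inv_mul_cancel _] at this

/-- Elements of order five of the parabolic lie outside the Borel subgroup. -/
theorem borel_five {y : GL T6.I K} (hy : y ∈ T6.datum.borelSubgroup K) (h5 : y ^ 5 = 1) : y = 1 := by
  have hT := Data.E6.valid
  have hC := Data.E6.chkComm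
  have := Fintype.ofFinite K
  obtain ⟨a, ha, h, hh, rfl⟩ := (mem_borel_iff hT).mp hy
  have h3 : h ^ 3 = 1 := by
    obtain ⟨χ, -, rfl⟩ := diag_exists_char hT hh
    rw [_root_.pow_three, dU_mul, dU_mul, ← dU_one (T := T6) (F := K)]
    refine dU_congr fun s _ => ?_
    apply Units.ext
    show (χ s : K) * ((χ s : K) * (χ s : K)) = 1
    rw [← _root_.pow_three]
    exact CfsgLib.Chevalley.TwistE6Five.pow_three hK (χ s).ne_zero
  rw [posUnipotent_rootGen hT] at ha
  have hn : ∀ g : GL T6.I K, g ∈ T6.rootGen K (fun r => T6.half ≤ r) → h * g * h⁻¹ ∈ T6.rootGen K (fun r => T6.half ≤ r) :=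
    fun g hg => (Subgroup.mem_normalizer_iff.mp (diag_le_normalizer hT (fun r => T6.half ≤ r) hh) g).mp hg
  have hpos : (a * h) ^ 3 ∈ T6.rootGen K (fun r => T6.half ≤ r) := by
    have e : (a * h) ^ 3 = a * (h * a * h⁻¹) * (h * (h * a * h⁻¹) * h⁻¹) * h ^ 3 := by
      simp only [_root_.pow_succ, pow_zero, one_mul, mul_assoc, inv_mul_cancel_left]
    rw [e, h3, mul_one]
    exact mul_mem (mul_mem ha (hn _ ha)) (hn _ (hn _ ha))
  have hcard : ((a * h) ^ 3) ^ (4 ^ 36) = 1 := by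
    have hc := card_posUnipotent (T := T6) (F := K) hT hC
    rw [show Fintype.card K = 4 by rw [← Nat.card_eq_fintype_card, hK], posUnipotent_rootGen hT] at hc
    have h1 := pow_card_eq_one' (x := (⟨_, hpos⟩ : ↥(T6.rootGen K (fun r => T6.half ≤ r))))
    rw [hc] at h1
    exact congrArg Subtype.val h1
  rw [← pow_mul] at hcard
  have hgcd : Nat.gcd 5 (3 * 4 ^ 36) = 1 := by norm_num
  have h1 := pow_gcd_eq_one.mpr ⟨h5, hcard⟩
  rwa [hgcd, pow_one] at h1

/-- The left normal form. -/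
theorem normal_form {g : GL T6.I K} (hg : g ∈ (tw hK).fix) :
    ∃ u ∈ (tw hK).fix, u ∈ Q K 1 ∧ ∃ l ∈ Lsub hK, ∃ n ∈ T6.datum.monomialSubgroup K, n ∈ (tw hK).fix ∧
      ∃ w ∈ (tw hK).W1, T6.Mono n w ∧ 36 ≤ (w⁻¹ ⟨42, by decide⟩).val ∧ 36 ≤ (w⁻¹ ⟨37, by decide⟩).val ∧
      ∃ q ∈ (tw hK).fix, q ∈ T6.rootGen K (T6.negSet w) ∧ g = u * l * n * q := by
  have hT := Data.E6.valid
  have hC := Data.E6.chkComm
  obtain ⟨a, ha, haf, n, hn, hnf, w, hw, hm, q, hq, hqf, e⟩ := (tw hK).fix_canonical hg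
  obtain ⟨p, hpf, hp, v, hvf, hv, rfl⟩ := Twist.pos_fix_factor (sW_mem hK) (sN_mono hK) ha haf
  have hvL := negSet_s_le hK hv hvf
  have hboth : ∀ {u : Equiv.Perm (Fin T6.n)}, u ∈ (tw hK).W1 →
      ((u ⟨37, by decide⟩).val < 36 ↔ (u ⟨42, by decide⟩).val < 36) := by
    intro u hu
    have h := (tw hK).W1_comm hu ⟨42, by decide⟩
    rw [rho42 hK] at h
    have hp := (tw hK).pos (u ⟨42, by decide⟩)
    rw [h] at hp
    exact ⟨fun h1 => not_le.mp fun h2 => absurd (hp.mpr h2) (not_le.mpr h1),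
      fun h1 => not_le.mp fun h2 => absurd (hp.mp h2) (not_le.mpr h1)⟩
  by_cases hneg : (w⁻¹ ⟨42, by decide⟩).val < 36
  · set w' := sW hK * w with hw'
    have hw'1 : w' ∈ (tw hK).W1 := mul_mem (sW_mem hK) hw
    have hpre : 36 ≤ (w'⁻¹ ⟨42, by decide⟩).val := by
      rw [hw', mul_inv_rev, Equiv.Perm.mul_apply, sW_inv]
      have e29 : sW hK ⟨42, by decide⟩ = T6.negF ⟨42, by decide⟩ := by
        refine Fin.ext ?_
        rw [sW_val]
        decide +kernel
      rw [e29, WP_negF hT (inv_mem hw).1]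
      exact le_negF hneg
    have hm' : T6.Mono ((sN hK)⁻¹ * n) w' := by
      have := (sN_mono hK).inv.mul hm
      rwa [sW_inv] at this
    have hn' : (sN hK)⁻¹ * n ∈ T6.datum.monomialSubgroup K := mul_mem (inv_mem (sN_N hK)) hn
    have hn'f : (sN hK)⁻¹ * n ∈ (tw hK).fix := mul_mem (inv_mem (sN_fix hK)) hnf
    set n' := (sN hK)⁻¹ * n with hn'def
    have hqpos : q ∈ T6.rootGen K (fun r => T6.half ≤ r) := rootGen_mono (fun r _ ⟨_, h, _⟩ => h) hq
    obtain ⟨q1, hq1f, hq1, q2, hq2f, hq2, hqe⟩ := Twist.pos_fix_factor hw'1 hm' hqpos hqf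
    have hsub : ∀ r : ℕ, T6.negSet w' r → T6.negSet w r := by
      rintro r ⟨hr, h1, h2⟩
      refine ⟨hr, h1, not_le.mp fun h3 => ?_⟩
      have h4 : (w ⟨r, hr⟩) = sW hK (w' ⟨r, hr⟩) := by
        rw [hw', Equiv.Perm.mul_apply, sW_sW]
      rw [h4, sW_val] at h3
      have h5 := (sW_facts _ (w' ⟨r, hr⟩).2).2.2.mp ⟨h2, h3⟩
      have h37 : 36 ≤ (w'⁻¹ ⟨37, by decide⟩).val := not_lt.mp fun h => absurd ((hboth (inv_mem hw'1)).mp h) (not_lt.mpr hpre)
      have key : ∀ (a : ℕ) (ha : a < T6.n), 36 ≤ (w'⁻¹ ⟨a, ha⟩).val → (w' ⟨r, hr⟩).val = T6.neg a → False := by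
        intro a ha hpos he
        have h6 : w' ⟨r, hr⟩ = T6.negF ⟨a, ha⟩ := Fin.ext he
        have h7 : (⟨r, hr⟩ : Fin T6.n) = T6.negF (w'⁻¹ ⟨a, ha⟩) := by
          rw [← WP_negF hT (inv_mem hw'1).1, ← h6]
          exact (w'.symm_apply_apply _).symm
        have h8 := negF_lt (T := T6) hpos
        rw [← h7] at h8
        exact absurd h1 (not_le.mpr h8)
      rcases h5 with h5 | h5
      · exact key 42 (by decide) hpre (by rw [h5]; rfl)
      · exact key 37 (by decide) h37 (by rw [h5]; rfl)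
    have hz : n' * q1 * n'⁻¹ ∈ T6.rootGen K (T6.negSet (sW hK)) := by
      rw [mem_negSet_iff hT hC (sN_mono hK)]
      refine ⟨conj_mem_rootGen hT hm' (fun r ⟨_, _, h⟩ => h) hq1, ?_⟩
      have hq1n : q1 ∈ T6.rootGen K (T6.negSet w) := by
        rw [show q1 = q * q2⁻¹ by rw [hqe]; group]
        exact mul_mem hq (inv_mem (rootGen_mono (fun r _ h => hsub r h) hq2))
      have := conj_mem_rootGen hT hm (fun r ⟨_, _, h⟩ => h) hq1n (Q := fun r => r < T6.half)
      rw [show sN hK * (n' * q1 * n'⁻¹) * (sN hK)⁻¹ = n * q1 * n⁻¹ by rw [hn'def]; group]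
      exact this
    have hzf : n' * q1 * n'⁻¹ ∈ (tw hK).fix := mul_mem (mul_mem hn'f hq1f) (inv_mem hn'f)
    refine ⟨p, hpf, posSet_s_le hK hp, v * sN hK * (n' * q1 * n'⁻¹),
      mul_mem (mul_mem hvL (sN_mem hK)) (negSet_s_le hK hz hzf), n', hn', hn'f, w', hw'1, hm', hpre,
      not_lt.mp fun h => absurd ((hboth (inv_mem hw'1)).mp h) (not_lt.mpr hpre), q2, hq2f, hq2, ?_⟩
    rw [e, hqe, hn'def]
    group
  · refine ⟨p, hpf, posSet_s_le hK hp, v, hvL, n, hn, hnf, w, hw, hm, not_lt.mp hneg,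
      not_lt.mp fun h => hneg ((hboth (inv_mem hw)).mp h), q, hqf, hq, by rw [e]⟩

end CfsgLib.Chevalley.TwistE6Five
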