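import Cfsg.Agent.Lib.Chevalley.TwistE6Five.HSub
import Cfsg.Agent.Lib.Chevalley.Twist.Weyl1

/-!
Facts about the twisted Weyl group of ²E₆ from its certificate, and representatives of reflections.
-/

set_option autoImplicit false
set_option maxRecDepth 100000
set_option maxHeartbeats 1000000
set_option Elab.async false

namespace CfsgLib.Chevalley.TwistE6Five

open Tbl

/-- The image of a positive root under a listed element. -/
def img (m r : ℕ) : ℕ := byteAt (Data.E6.elts.ent m).key (r - 36)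

/-- The reflection words of the orthogonal system. -/
def rword (h : Fin 3) : List ℕ := [[1], [0, 2, 3, 4, 5, 4, 3, 2, 0], [3, 1, 2, 3, 4, 3, 2, 1, 3]].getD h.val []

/-- The roots of the reflections. -/
def rroot (h : Fin 3) : ℕ := [46, 60, 53].getD h.val 0

/-- The words of the pointwise stabiliser. -/
def stabWords : List (List (Fin 3)) :=
  [[], [0], [1], [2], [0, 1], [0, 2], [1, 0], [1, 2], [2, 1], [0, 1, 0], [0, 1, 2], [0, 2, 1], [1, 0, 2],
    [1, 2, 1], [2, 1, 0], [0, 1, 0, 2], [0, 1, 2, 1], [0, 2, 1, 0], [1, 0, 2, 1], [1, 2, 1, 0],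
    [0, 1, 0, 2, 1], [0, 1, 2, 1, 0], [1, 0, 2, 1, 0], [0, 1, 0, 2, 1, 0]]

/-- Whether a listed element preserves the degree at the two end nodes. -/
def keepsEnd (m : ℕ) : Bool :=
  allLt (fun k => decide (T6.co (img m (36 + k)) 0 + T6.co (img m (36 + k)) 5 =
    T6.co (36 + k) 0 + T6.co (36 + k) 5)) 36

theorem stab_check : allLt (fun m => !(Nat.beq (img m 42) 42 && Nat.beq (img m 37) 37) ||
    stabWords.any fun l => allLt (fun k => Nat.beq (img m (36 + k))
      (T6.actWord (l.flatMap rword) (36 + k))) 36) 1152 = true := by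
  decide +kernel

theorem end_sum : (((List.range 1152).filter keepsEnd).map fun m => 2 ^ (Data.E6.elts.ent m).deg).sum % 25 ≠ 0 := by
  decide +kernel

/-- The word to a parabolic subgroup containing a long root system. -/
def w0List : List (Fin 4) := [2, 3, 1, 0, 3, 1, 2]

theorem w0_facts : ∀ r < 72, Orth r →
    T6.co (T6.actWord ((w0List.map Fin.val).flatMap fun j => Data.E6.orbWords.getD j []) r) 0 +
      T6.co (T6.actWord ((w0List.map Fin.val).flatMap fun j => Data.E6.orbWords.getD j []) r) 5 = 0 := by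
  decide +kernel

theorem actWord_append (l l' : List ℕ) (r : ℕ) :
    T6.actWord (l ++ l') r = T6.actWord l (T6.actWord l' r) := by
  simp [actWord, List.foldr_append]

/-- The twisted Weyl group is listed. -/
theorem exists_img {K : Type*} [Field K] [Finite K] (hK : Nat.card K = 4)
    {w : Equiv.Perm (Fin T6.n)} (hw : w ∈ (tw hK).W1) :
    ∃ m < 1152, ∀ r : Fin T6.n, 36 ≤ r.val → (w r).val = img m r.val := by
  let A := Twist.E6.setup (K := K) Nat.prime_two.isPrimePow (hK2 hK)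
  have hE := Data.E6.chk_elts
  simp only [chkElts, chkEltGens, Bool.and_eq_true, allLt_iff, List.any_eq_true, List.mem_range] at hE
  obtain ⟨⟨⟨⟨-, hgen⟩, -⟩, ⟨m0, hm0, hdep0⟩⟩, helt⟩ := hE
  have hlen : Data.E6.elts.len = 1152 := rfl
  let R : ℕ → Equiv.Perm (Fin T6.n) → Prop := fun m u => ∀ r : Fin T6.n, 36 ≤ r.val → (u r).val = img m r.val
  have h0 : R m0 1 := by
    intro r hr
    have h := helt m0 hm0
    simp only [chkElt, Bool.and_eq_true] at h
    have h1 := h.1.1.1.1.1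
    rw [Nat.eq_of_beq_eq_true hdep0] at h1
    simp only [Nat.beq_refl, cond_true, allLt_iff] at h1
    have h3 := r.2
    have h4 := Nat.eq_of_beq_eq_true (h1 (r.val - 36) (by show r.val - 36 < 36; change r.val < 72 at h3; omega))
    show r.val = byteAt _ (r.val - 36)
    rw [h4]
    show r.val = 36 + (r.val - 36)
    omega
  have hstep : ∀ m < 1152, ∀ u, R m u → ∀ j : Fin A.O.o, ∃ t < 1152, R t ((tw hK).wJ A.O j * u) := by
    intro m hm u hR j
    have h := helt m hm
    simp only [chkElt, chkMulKey, Bool.and_eq_true, allLt_iff] at h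
    have hj : j.val < 4 := j.2
    obtain ⟨h1, h2⟩ := h.1.1.1.2 j.val hj
    refine ⟨_, Nat.le_of_ble_eq_true h1, fun r hr => ?_⟩
    have h3 : r.val < 72 := r.2
    have h4 := Nat.eq_of_beq_eq_true (h2 (r.val - 36) (by show r.val - 36 < 36; omega))
    show ((tw hK).wJ A.O j (u r)).val = _
    have e1 : ((tw hK).wJ A.O j (u r)).val = T6.actWord (Data.E6.orbWords.getD j.val []) (u r).val :=
      A.D.orbits_wJ A.hO j (u r)
    rw [e1, ← Nat.eq_of_beq_eq_true (hgen j.val hj (u r).val (u r).2), hR r hr]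
    exact h4
  have hall : ∀ w ∈ (tw hK).W1, ∀ m < 1152, ∀ u, R m u → ∃ t < 1152, R t (w * u) := by
    refine (tw hK).W1_induction A.O (fun m hm u hR => ⟨m, hm, by rwa [one_mul]⟩) ?_
    intro v _ j _ ih m hm u hR
    obtain ⟨t, ht, hR'⟩ := hstep m hm u hR j
    obtain ⟨s, hs, hR''⟩ := ih t ht _ hR'
    exact ⟨s, hs, by rwa [mul_assoc]⟩
  obtain ⟨t, ht, hR⟩ := hall w hw m0 hm0 1 h0
  exact ⟨t, ht, fun r hr => by have := hR r hr; rwa [mul_one] at this⟩

variable {K : Type*} [Field K] [Finite K] (hK : Nat.card K = 4)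
include hK

omit hK in
theorem rword_facts : ∀ h : Fin 3, rroot h < 72 ∧ Orth (rroot h) ∧ Orth (T6.neg (rroot h)) := by
  decide +kernel

omit hK in
theorem rword_split : ∀ h : Fin 3, ∃ l : List (Fin 6), ∃ i : Fin 6,
    rword h = l.map Fin.val ++ [i.val] ++ l.reverse.map Fin.val ∧
      T6.actWord (l.map Fin.val) (T6.simple i.val) = rroot h :=
  fun h => match h with
  | 0 => ⟨[], 1, rfl, by decide +kernel⟩
  | 1 => ⟨[0, 2, 3, 4], 5, rfl, by decide +kernel⟩
  | 2 => ⟨[3, 1, 2, 3], 4, rfl, by decide +kernel⟩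

theorem rep_refl (h : Fin 3) :
    ∃ n ∈ (psi hK).range, n ∈ T6.datum.monomialSubgroup K ∧ ∃ v : Equiv.Perm (Fin T6.n), T6.Mono n v ∧
      ∀ r : Fin T6.n, (v r).val = T6.actWord (rword h) r.val := by
  have hT := Data.E6.valid
  obtain ⟨hlt, ho, hon⟩ := rword_facts h
  obtain ⟨l, i, hword, hroot⟩ := rword_split h
  let li : List (Fin T6.rank) := l
  let ii : Fin T6.rank := i
  have hA : T6.Mono (T6.nw K li * T6.nU K (T6.simple ii) 1 * (T6.nw K li)⁻¹)
      (T6.pw hT li * T6.refP hT ii * (T6.pw hT li)⁻¹) :=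
    ((mono_nw hT li).mul (mono_nU_simple hT ii)).mul (mono_nw hT li).inv
  have hval : ∀ r : Fin T6.n, ((T6.pw hT li * T6.refP hT ii * (T6.pw hT li)⁻¹) r).val =
      T6.actWord (rword h) r.val := by
    intro r
    rw [hword, actWord_append, actWord_append, ← pw_reverse]
    simp only [Equiv.Perm.mul_apply]
    have hpw : ∀ (l : List (Fin T6.rank)) (r : Fin T6.n), (T6.pw hT l r).val = T6.actWord (l.map Fin.val) r.val :=
      fun l r => (Twist.E6.setup (K := K) Nat.prime_two.isPrimePow (hK2 hK)).D.pw_apply l r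
    rw [hpw, refP_apply, hpw]
    rfl
  obtain ⟨c, hc⟩ := (mono_nw (F := K) hT li).conj (T6.simpF hT ii)
  have hr : (T6.pw hT li (T6.simpF hT ii)).val = rroot h := by
    rw [← hroot]
    exact (Twist.E6.setup (K := K) Nat.prime_two.isPrimePow (hK2 hK)).D.pw_apply li _
  set g := T6.nw K li
  have e1 : ∀ t, g * T6.xU K (T6.simple ii) t * g⁻¹ = T6.xU K (rroot h) ((c : K) * t) := fun t => by
    have := (hc t).1
    rw [hr] at this
    exact mul_inv_eq_iff_eq_mul.mpr this
  have e2 : ∀ t, g * T6.xU K (T6.neg (T6.simple ii)) t * g⁻¹ = T6.xU K (T6.neg (rroot h)) ((c : K)⁻¹ * t) :=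
    fun t => by
      have := (hc t).2
      rw [hr, Units.val_inv_eq_inv_val] at this
      exact mul_inv_eq_iff_eq_mul.mpr this
  have e3 : g * T6.nU K (T6.simple ii) 1 * g⁻¹ = T6.dU (T6.hCh (rroot h) c) * T6.nU K (rroot h) 1 := by
    rw [← nU_t hT hlt c]
    show g * (T6.xU K _ 1 * T6.xU K _ (-1⁻¹) * T6.xU K _ 1) * g⁻¹ = T6.xU K _ (c : K) * T6.xU K _ (-(c : K)⁻¹) * T6.xU K _ (c : K)
    rw [show g * (T6.xU K (T6.simple ii) 1 * T6.xU K (T6.neg (T6.simple ii)) (-1⁻¹) * T6.xU K (T6.simple ii) 1) * g⁻¹ =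
      (g * T6.xU K (T6.simple ii) 1 * g⁻¹) * (g * T6.xU K (T6.neg (T6.simple ii)) (-1⁻¹) * g⁻¹) *
        (g * T6.xU K (T6.simple ii) 1 * g⁻¹) by group, e1, e2]
    simp
  have hd : T6.dU (T6.hCh (rroot h) c) ∈ T6.datum.diagonalSubgroup K := by
    rw [diagonalSubgroup_eq hT]; exact Subgroup.subset_closure ⟨_, hlt, _, rfl⟩
  have hgN : g * T6.nU K (T6.simple ii) 1 * g⁻¹ ∈ T6.datum.monomialSubgroup K :=
    mul_mem (mul_mem (nw_mem hT li) (nU_simple_mem_N hT ii)) (inv_mem (nw_mem hT li))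
  rw [e3] at hA hgN
  refine ⟨T6.nU K (rroot h) 1, ?_, ?_, T6.pw hT li * T6.refP hT ii * (T6.pw hT li)⁻¹, ?_, hval⟩
  · show T6.xU K _ 1 * T6.xU K _ (-1⁻¹) * T6.xU K _ 1 ∈ _
    rw [inv_one, neg_one hK]
    exact mul_mem (mul_mem (xU_mem_psi hK hlt ho) (xU_mem_psi hK (neg_lt' hlt) hon)) (xU_mem_psi hK hlt ho)
  · have := mul_mem (inv_mem (diag_le_N hT hd)) hgN
    rwa [inv_mul_cancel_left] at this
  · have := (mono_diag hT hd).inv.mul hA
    rwa [inv_mul_cancel_left, inv_one, one_mul] at this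

theorem rep_word : ∀ l : List (Fin 3),
    ∃ n ∈ (psi hK).range, n ∈ T6.datum.monomialSubgroup K ∧ ∃ v : Equiv.Perm (Fin T6.n), T6.Mono n v ∧
      ∀ r : Fin T6.n, (v r).val = T6.actWord (l.flatMap rword) r.val := by
  intro l
  induction l with
  | nil => exact ⟨1, one_mem _, one_mem _, 1, Mono.one, fun r => rfl⟩
  | cons h l ih =>
    obtain ⟨n, hn, hN, v, hm, hv⟩ := rep_refl hK h
    obtain ⟨n', hn', hN', v', hm', hv'⟩ := ih
    refine ⟨n * n', mul_mem hn hn', mul_mem hN hN', v * v', hm.mul hm', fun r => ?_⟩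
    rw [List.flatMap_cons, actWord_append, Equiv.Perm.mul_apply, hv, hv']

/-- An element fixing both orbit roots has a representative in the orthogonal system. -/
theorem stab_rep {w : Equiv.Perm (Fin T6.n)} (hw : w ∈ (tw hK).W1)
    (h1 : (w ⟨42, by decide⟩).val = 42) (h2 : (w ⟨37, by decide⟩).val = 37) :
    ∃ n ∈ (psi hK).range, n ∈ T6.datum.monomialSubgroup K ∧ T6.Mono n w := by
  have hT := Data.E6.valid
  obtain ⟨m, hm, hv⟩ := exists_img hK hw
  have hc := allLt_iff.mp stab_check m hm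
  rw [← hv ⟨42, by decide⟩ (by norm_num), ← hv ⟨37, by decide⟩ (by norm_num), h1, h2] at hc
  simp only [Nat.beq_refl, Bool.and_self, Bool.not_true, Bool.false_or, List.any_eq_true, allLt_iff] at hc
  obtain ⟨l, -, hl⟩ := hc
  obtain ⟨n, hn, hN, v, hmv, hvv⟩ := rep_word hK l
  obtain ⟨v', hv', hmv'⟩ := exists_mono hT hN
  obtain rfl := hmv.unique hmv'
  have : v = w := TwistData.pos_det (Twist.E6.setup (K := K) Nat.prime_two.isPrimePow (hK2 hK)).D hv' hw.1
    fun r hr => Fin.ext (by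
      have hr' : 36 ≤ r.val := hr
      rw [hvv r, hv r hr']
      have h3 : r.val < 72 := r.2
      have := Nat.eq_of_beq_eq_true (hl (r.val - 36) (by omega))
      rw [show 36 + (r.val - 36) = r.val by omega] at this
      exact this.symm)
  exact ⟨n, hn, hN, this ▸ hmv⟩

end CfsgLib.Chevalley.TwistE6Five
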