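import Cfsg.Agent.Lib.Chevalley.TwistE6Five.Cells
import Cfsg.Agent.Lib.Chevalley.TwistE6Five.Weyl

/-!
The centraliser of the element of order five in ²E₆(2).
-/

set_option autoImplicit false
set_option maxRecDepth 20000
set_option Elab.async false

namespace CfsgLib.Chevalley.TwistE6Five

open Tbl

variable {K : Type*} [Field K] [Finite K] (hK : Nat.card K = 4)
include hK

set_option synthInstance.maxSize 1000 in
omit [Finite K] hK in
theorem closed_orthPos : T6.Closed OrthPos := by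
  have key : ∀ r < 72, ∀ s < 72, OrthPos r → OrthPos s → ∀ c ∈ T6.commT r s, OrthPos c.1 := by
    decide +kernel
  intro r hr s hs h1 h2 _ _ c hc
  exact key r hr s hs h1 h2 c hc

theorem orth_fix_psi {u : GL T6.I K} (hu : u ∈ T6.rootGen K OrthPos) (hf : u ∈ (tw hK).fix) :
    u ∈ (psi hK).range := by
  have hT := Data.E6.valid
  have hC := Data.E6.chkComm
  classical
  obtain ⟨f, hgf⟩ := exists_gprod hT hC closed_orthPos 36 36 rfl le_rfl u
    (rootGen_mono (fun r _ h => show OrthPos r ∧ 36 ≤ r from ⟨h, h.1⟩) hu)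
  set L := (List.range' 36 36).filter fun r => decide (OrthPos r)
  have hL : ∀ r ∈ L, r < 72 ∧ OrthPos r := fun r hr => by
    simp only [L, List.mem_filter, List.mem_range'_1, decide_eq_true_eq] at hr
    exact ⟨hr.1.2, hr.2⟩
  have e := hf.2
  rw [hgf, sg_gprod (tw hK) (fun p hp => by
      obtain ⟨r, hr, rfl⟩ := List.mem_map.mp hp
      exact (hL r hr).1) (fun p => (p.1, p.2 ^ 2)) (fun p hp => by
      obtain ⟨r, hr, rfl⟩ := List.mem_map.mp hp
      rw [sg_root hK (hL r hr).1, (orth_fix r (hL r hr).1 (hL r hr).2.2).1]), List.map_map] at e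
  have hinj := gprod_inj hT hC (List.Pairwise.filter _ List.pairwise_lt_range')
    (fun r hr => ⟨(hL r hr).2.1, (hL r hr).1⟩) (fun r => f r ^ 2) f e
  rw [hgf]
  refine list_prod_mem fun y hy => ?_
  simp only [List.map_map, List.mem_map, Function.comp_apply] at hy
  obtain ⟨r, hr, rfl⟩ := hy
  have h2 : f r ^ 2 = f r := hinj r hr
  have h3 : f r * (f r - 1) = 0 := by linear_combination h2
  rcases mul_eq_zero.mp h3 with h4 | h4
  · rw [h4, xU_zero hT (hL r hr).1]; exact one_mem _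
  · rw [sub_eq_zero.mp h4]; exact xU_mem_psi hK (hL r hr).1 (hL r hr).2.2

theorem L_conj_Q {l u : GL T6.I K} (hl : l ∈ Lsub hK) (hu : u ∈ Q K 1) : l * u * l⁻¹ ∈ Q K 1 := by
  have hle : T6.rootGen K Orb ≤ Subgroup.normalizer (Q K 1 : Set (GL T6.I K)) := by
    refine rootGen_le fun r hr ho t => Subgroup.mem_normalizer_iff.mpr fun g => ⟨fun hg => ?_, fun hg => ?_⟩
    · exact (conj_root hK le_rfl (by rcases ho with rfl | rfl | rfl | rfl <;> simp) t hg).1
    · have := (conj_root hK le_rfl (a := r) (by rcases ho with rfl | rfl | rfl | rfl <;> simp) t hg).1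
      rw [show T6.xU K r t * (T6.xU K r t * g * (T6.xU K r t)⁻¹) * (T6.xU K r t)⁻¹ = g from ?_] at this
      · exact this
      · have e : T6.xU K r t * T6.xU K r t = 1 := by
          rw [xU_add Data.E6.valid hr, add_self hK, xU_zero Data.E6.valid hr]
        calc _ = (T6.xU K r t * T6.xU K r t) * g * (T6.xU K r t * T6.xU K r t)⁻¹ := by group
          _ = g := by rw [e]; group
  exact (Subgroup.mem_normalizer_iff.mp (hle hl.2) u).mp hu

theorem Q_disjoint {u : GL T6.I K} (hu : u ∈ Q K 1) (hl : u ∈ T6.rootGen K Orb) : u = 1 :=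
  eq_one_of_block_uni (orb_block hK hl) fun row col hle =>
    (Q_le_raise le_rfl hu).1 row col (by
      have h : gr row ≤ gr col := hle
      push_cast
      omega)

theorem negSet_le_Q {w : Equiv.Perm (Fin T6.n)} (h1 : 36 ≤ (w ⟨42, by decide⟩).val)
    (h2 : 36 ≤ (w ⟨37, by decide⟩).val) : T6.rootGen K (T6.negSet w) ≤ Q K 1 := by
  refine rootGen_mono fun r hr ⟨h, hp, hn⟩ => ⟨hp, ?_⟩
  have ho : ¬ Orb r := by
    rintro (rfl | rfl | rfl | rfl)
    · exact absurd h1 (not_le.mpr hn)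
    · exact absurd h2 (not_le.mpr hn)
    · exact absurd hp (by decide)
    · exact absurd hp (by decide)
  have := (D_facts r hr ho).1.mp hp
  push_cast
  omega

/-- Uniqueness of the normal form. -/
theorem normal_unique {u l n q : GL T6.I K} {w : Equiv.Perm (Fin T6.n)} (hu : u ∈ Q K 1) (hl : l ∈ Lsub hK)
    (hn : n ∈ T6.datum.monomialSubgroup K) (hm : T6.Mono n w)
    (h1 : 36 ≤ (w⁻¹ ⟨42, by decide⟩).val) (h2 : 36 ≤ (w⁻¹ ⟨37, by decide⟩).val)
    (hq : q ∈ T6.rootGen K (T6.negSet w)) (e : u * l * n * q = n) : u = 1 ∧ l = 1 ∧ q = 1 := by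
  have hT := Data.E6.valid
  have hC := Data.E6.chkComm
  have huB : u ∈ T6.datum.borelSubgroup K := pos_le_borel' (fun _ _ h => h.1) hu
  have hqB : q ∈ T6.datum.borelSubgroup K := pos_le_borel' (fun _ _ ⟨_, h, _⟩ => h) hq
  rcases P_cases hK (L_le_P hK hl) with hB | ⟨a, ha, b, hb, hab⟩
  · obtain ⟨-, h⟩ := canonical_unique hT hC (mul_mem huB hB) (one_mem _) hn hn hm hq (one_mem _)
      (by rw [one_mul, mul_one]; exact e)
    obtain ⟨h3, h4⟩ := h hm rfl
    have hl' : l = u⁻¹ := eq_inv_of_mul_eq_one_right h3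
    have hu1 : u = 1 := Q_disjoint hK hu (by
      rw [show u = l⁻¹ by rw [hl', inv_inv]]; exact inv_mem hl.2)
    subst hu1
    exact ⟨rfl, by rw [hl', inv_one], h4⟩
  · exfalso
    obtain ⟨c, hc, h, hh, rfl⟩ := (mem_borel_iff hT).mp hb
    rw [posUnipotent_rootGen hT] at hc
    obtain ⟨p, hp, v, hv, rfl⟩ := exists_pos_factor hT hC (sW hK) hc
    have hv' : n⁻¹ * v * n ∈ T6.rootGen K (fun r => T6.half ≤ r) := by
      rw [show n⁻¹ * v * n = n⁻¹ * v * n⁻¹⁻¹ by rw [inv_inv]]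
      refine conj_mem_rootGen hT hm.inv (fun r hr => ?_) hv
      rcases (negSet_s hK).mp hr with h | h
      · rw [show r = (⟨42, by decide⟩ : Fin T6.n) from Fin.ext h]; exact h1
      · rw [show r = (⟨37, by decide⟩ : Fin T6.n) from Fin.ext h]; exact h2
    have hp' : sN hK * p * (sN hK)⁻¹ ∈ T6.rootGen K (fun r => T6.half ≤ r) :=
      conj_mem_rootGen hT (sN_mono hK) (fun r ⟨_, _, h⟩ => h) hp
    have hh' : n⁻¹ * h * n ∈ T6.datum.borelSubgroup K := Subgroup.mem_sup_right (by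
      have := conj_diag hT (inv_mem hn) hh; rwa [inv_inv] at this)
    have key := cell_eq (K := K) (a := u * a * (sN hK * p * (sN hK)⁻¹)) (b := (n⁻¹ * v * n) * (n⁻¹ * h * n) * q)
      (c := 1) (d := 1) (mul_mem (mul_mem huB ha) (pos_le_borel' (fun _ _ h => h) hp'))
      (mul_mem (mul_mem (pos_le_borel' (fun _ _ h => h) hv') hh') hqB) (one_mem _) (one_mem _)
      (mul_mem (sN_N hK) hn) hn ((sN_mono hK).mul hm) hm
      (by
        calc _ = u * (a * sN hK * (p * v * h)) * n * q := by group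
          _ = u * l * n * q := by rw [hab]
          _ = n := e
          _ = 1 * n * 1 := by group)
    have h3 : sW hK = 1 := mul_eq_right.mp key
    have h5 : (sW hK ⟨42, by decide⟩).val = 42 := by rw [h3]; rfl
    rw [sW_val] at h5
    exact absurd h5 (by decide +kernel)

theorem orb_image {w : Equiv.Perm (Fin T6.n)} (hw : w ∈ (tw hK).W1)
    (hc : sW hK * w = w * sW hK) (h : 36 ≤ (w ⟨42, by decide⟩).val) :
    ((w ⟨42, by decide⟩).val = 42 ∧ (w ⟨37, by decide⟩).val = 37) ∨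
      ((w ⟨42, by decide⟩).val = 37 ∧ (w ⟨37, by decide⟩).val = 42) := by
  have hT := Data.E6.valid
  have e := congrArg (fun p : Equiv.Perm (Fin T6.n) => p ⟨42, by decide⟩) hc
  simp only [Equiv.Perm.mul_apply] at e
  have e29 : sW hK ⟨42, by decide⟩ = T6.negF ⟨42, by decide⟩ := by
    refine Fin.ext ?_
    rw [sW_val]
    decide +kernel
  rw [e29, WP_negF hT hw.1] at e
  have h2 := negF_lt (T := T6) h
  rw [← e, sW_val] at h2
  have hcase := (sW_facts _ (w ⟨42, by decide⟩).2).1.mp ⟨h, h2⟩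
  have hρ := (tw hK).W1_comm hw ⟨42, by decide⟩
  rw [rho42 hK] at hρ
  rcases hcase with h3 | h3
  · refine Or.inl ⟨h3, ?_⟩
    rw [← hρ, show w ⟨42, by decide⟩ = (⟨42, by decide⟩ : Fin T6.n) from Fin.ext h3, rho42 hK]
  · refine Or.inr ⟨h3, ?_⟩
    rw [← hρ, show w ⟨42, by decide⟩ = (⟨37, by decide⟩ : Fin T6.n) from Fin.ext h3, rho37 hK]

theorem pull_left {n : GL T6.I K} {w : Equiv.Perm (Fin T6.n)} (hm : T6.Mono n w)
    (hn : n ∈ T6.datum.monomialSubgroup K) (h1 : 36 ≤ (w⁻¹ ⟨42, by decide⟩).val)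
    (h2 : 36 ≤ (w⁻¹ ⟨37, by decide⟩).val) {b : GL T6.I K} (hb : b ∈ T6.datum.borelSubgroup K) :
    ∃ c ∈ T6.datum.borelSubgroup K, ∃ d ∈ T6.datum.borelSubgroup K, sN hK * b * n = c * (sN hK * n) * d := by
  have hT := Data.E6.valid
  have hC := Data.E6.chkComm
  obtain ⟨a, ha, h, hh, rfl⟩ := (mem_borel_iff hT).mp hb
  rw [posUnipotent_rootGen hT] at ha
  obtain ⟨p, hp, v, hv, rfl⟩ := exists_pos_factor hT hC (sW hK) ha
  have hv' : n⁻¹ * v * n ∈ T6.rootGen K (fun r => T6.half ≤ r) := by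
    rw [show n⁻¹ * v * n = n⁻¹ * v * n⁻¹⁻¹ by rw [inv_inv]]
    refine conj_mem_rootGen hT hm.inv (fun r hr => ?_) hv
    rcases (negSet_s hK).mp hr with h | h
    · rw [show r = (⟨42, by decide⟩ : Fin T6.n) from Fin.ext h]; exact h1
    · rw [show r = (⟨37, by decide⟩ : Fin T6.n) from Fin.ext h]; exact h2
  refine ⟨sN hK * p * (sN hK)⁻¹, pos_le_borel' (fun _ _ h => h)
      (conj_mem_rootGen hT (sN_mono hK) (fun r ⟨_, _, h⟩ => h) hp),
    (n⁻¹ * v * n) * (n⁻¹ * h * n), mul_mem (pos_le_borel' (fun _ _ h => h) hv') (Subgroup.mem_sup_right (by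
      have := conj_diag hT (inv_mem hn) hh; rwa [inv_inv] at this)), by group⟩

theorem pull_right {n : GL T6.I K} {w : Equiv.Perm (Fin T6.n)} (hm : T6.Mono n w)
    (hn : n ∈ T6.datum.monomialSubgroup K) (h1 : 36 ≤ (w ⟨42, by decide⟩).val)
    (h2 : 36 ≤ (w ⟨37, by decide⟩).val) {b : GL T6.I K} (hb : b ∈ T6.datum.borelSubgroup K) :
    ∃ c ∈ T6.datum.borelSubgroup K, ∃ d ∈ T6.datum.borelSubgroup K, n * b * sN hK = c * (n * sN hK) * d := by
  have hT := Data.E6.valid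
  have hC := Data.E6.chkComm
  obtain ⟨a, ha, h, hh, rfl⟩ := (mem_borel_iff hT).mp hb
  rw [posUnipotent_rootGen hT] at ha
  have ha' : (h⁻¹ * a * h)⁻¹ ∈ T6.rootGen K (fun r => T6.half ≤ r) := by
    have := (Subgroup.mem_normalizer_iff.mp (diag_le_normalizer hT (fun r => T6.half ≤ r) (inv_mem hh)) a).mp ha
    rw [inv_inv] at this
    exact inv_mem this
  obtain ⟨p, hp, v, hv, hpv⟩ := exists_pos_factor hT hC (sW hK) ha'
  have he : a * h = h * (v⁻¹ * p⁻¹) := by
    calc a * h = h * ((h⁻¹ * a * h)⁻¹)⁻¹ := by group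
      _ = h * (p * v)⁻¹ := by rw [hpv]
      _ = _ := by group
  have hv' : n * v⁻¹ * n⁻¹ ∈ T6.rootGen K (fun r => T6.half ≤ r) := by
    refine conj_mem_rootGen hT hm (fun r hr => ?_) (inv_mem hv)
    rcases (negSet_s hK).mp hr with h | h
    · rw [show r = (⟨42, by decide⟩ : Fin T6.n) from Fin.ext h]; exact h1
    · rw [show r = (⟨37, by decide⟩ : Fin T6.n) from Fin.ext h]; exact h2
  have hp' : (sN hK)⁻¹ * p⁻¹ * sN hK ∈ T6.rootGen K (fun r => T6.half ≤ r) := by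
    rw [show (sN hK)⁻¹ * p⁻¹ * sN hK = (sN hK)⁻¹ * p⁻¹ * (sN hK)⁻¹⁻¹ by rw [inv_inv]]
    refine conj_mem_rootGen hT (sN_mono hK).inv (fun r ⟨_, _, h⟩ => ?_) (inv_mem hp)
    rw [sW_inv]
    exact h
  refine ⟨n * h * n⁻¹ * (n * v⁻¹ * n⁻¹), mul_mem (Subgroup.mem_sup_right (conj_diag hT hn hh))
      (pos_le_borel' (fun _ _ h => h) hv'), (sN hK)⁻¹ * p⁻¹ * sN hK, pos_le_borel' (fun _ _ h => h) hp', ?_⟩
  rw [he]
  group

theorem xF_P : xF hK ∈ Psub hK := L_le_P hK (xF_mem hK)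

/-- The permutation of a centralising element commutes with the reflection of the orbit. -/
theorem perm_commute {p1 p2 n : GL T6.I K} {w : Equiv.Perm (Fin T6.n)} (h1P : p1 ∈ Psub hK) (h2P : p2 ∈ Psub hK)
    (hn : n ∈ T6.datum.monomialSubgroup K) (hm : T6.Mono n w)
    (a1 : 36 ≤ (w⁻¹ ⟨42, by decide⟩).val) (a2 : 36 ≤ (w⁻¹ ⟨37, by decide⟩).val)
    (b1 : 36 ≤ (w ⟨42, by decide⟩).val) (b2 : 36 ≤ (w ⟨37, by decide⟩).val)
    (hc : Commute (p1 * n * p2) (xF hK)) : sW hK * w = w * sW hK := by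
  have hy : ∀ {p : GL T6.I K}, p ∈ Psub hK → ∃ a ∈ T6.datum.borelSubgroup K, ∃ b ∈ T6.datum.borelSubgroup K,
      p * xF hK * p⁻¹ = a * sN hK * b := by
    intro p hp
    rcases P_cases hK (mul_mem (mul_mem hp (xF_P hK)) (inv_mem hp)) with h | h
    · exfalso
      have h5 : (p * xF hK * p⁻¹) ^ 5 = 1 := by rw [_root_.conj_pow, (xF_five hK).1]; group
      exact (xF_five hK).2 (conj_eq_one_iff.mp (borel_five hK h h5))
    · exact h
  obtain ⟨a, ha, b, hb, e⟩ := hy (inv_mem h1P)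
  obtain ⟨a', ha', b', hb', e'⟩ := hy h2P
  obtain ⟨c, hcB, d, hd, k1⟩ := pull_left hK hm hn a1 a2 hb
  obtain ⟨c', hc', d', hd', k2⟩ := pull_right hK hm hn b1 b2 ha'
  refine cell_eq (K := K) (mul_mem ha hcB) hd hc' (mul_mem hd' hb') (mul_mem (sN_N hK) hn) (mul_mem hn (sN_N hK))
    ((sN_mono hK).mul hm) (hm.mul (sN_mono hK)) ?_
  calc a * c * (sN hK * n) * d = a * (c * (sN hK * n) * d) := by group
    _ = a * (sN hK * b * n) := by rw [k1]
    _ = (a * sN hK * b) * n := by group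
    _ = p1⁻¹ * xF hK * p1⁻¹⁻¹ * n := by rw [e]
    _ = p1⁻¹ * (xF hK * (p1 * n * p2)) * p2⁻¹ := by group
    _ = p1⁻¹ * (p1 * n * p2 * xF hK) * p2⁻¹ := by rw [hc.eq]
    _ = n * (p2 * xF hK * p2⁻¹) := by group
    _ = n * (a' * sN hK * b') := by rw [e']
    _ = (n * a' * sN hK) * b' := by group
    _ = (c' * (n * sN hK) * d') * b' := by rw [k2]
    _ = c' * (n * sN hK) * (d' * b') := by group

theorem negSet_normal {w : Equiv.Perm (Fin T6.n)} (hw : w ∈ (tw hK).W1)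
    (ho : ∀ a : Fin T6.n, Orb a.val ↔ Orb (w a).val) (h1 : 36 ≤ (w ⟨42, by decide⟩).val)
    (h2 : 36 ≤ (w ⟨37, by decide⟩).val) :
    T6.rootGen K Orb ≤ Subgroup.normalizer (T6.rootGen K (T6.negSet w) : Set (GL T6.I K)) := by
  have hT := Data.E6.valid
  have hC := Data.E6.chkComm
  refine rootGen_le fun a ha hao t => xU_mem_normalizer hT hC ha (fun s hs hsn hne => ?_) t
  obtain ⟨hs', hs1, hs2⟩ := hsn
  have hso : ¬ Orb s := by
    rintro (rfl | rfl | rfl | rfl)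
    · exact absurd h1 (not_le.mpr hs2)
    · exact absurd h2 (not_le.mpr hs2)
    · exact absurd hs1 (by decide)
    · exact absurd hs1 (by decide)
  refine ⟨fun e => hso ?_, fun c hc => ?_⟩
  · subst e
    rcases hao with rfl | rfl | rfl | rfl
    · exact Or.inr (Or.inr (Or.inl rfl))
    · exact Or.inr (Or.inr (Or.inr rfl))
    · exact Or.inl rfl
    · exact Or.inr (Or.inl rfl)
  obtain ⟨hi, hj, hco⟩ := commT_co hT ha hs c hc
  have hcn := commT_lt hT ha hs c hc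
  have hD : D c.1 = c.2.2.2 * D s := by
    rw [D_add hco, D_orb a ha hao, mul_zero, zero_add]
  have hDw : D (w ⟨c.1, hcn⟩).val = c.2.2.2 * D (w ⟨s, hs⟩).val := by
    rw [D_add (r := (w ⟨a, ha⟩).val) (s := (w ⟨s, hs⟩).val) (i := c.2.2.1) (j := c.2.2.2)
      (fun k hk => commT_image hT hw.1 (r := ⟨a, ha⟩) (s := ⟨s, hs⟩) hc hk),
      D_orb _ (w ⟨a, ha⟩).2 ((ho ⟨a, ha⟩).mp hao), mul_zero, zero_add]
  have hwso : ¬ Orb (w ⟨s, hs⟩).val := fun h => hso ((ho ⟨s, hs⟩).mpr h)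
  have hj' : (0 : ℤ) < (c.2.2.2 : ℤ) := by exact_mod_cast hj
  have hc1 : 0 < D c.1 := by
    rw [hD]; exact mul_pos hj' ((D_facts s hs hso).1.mp hs1)
  have hc2 : D (w ⟨c.1, hcn⟩).val < 0 := by
    rw [hDw]; exact mul_neg_of_pos_of_neg hj' ((D_facts _ (w ⟨s, hs⟩).2 hwso).2.mp hs2)
  have hco1 : ¬ Orb c.1 := fun h => by rw [D_orb _ hcn h] at hc1; omega
  have hco2 : ¬ Orb (w ⟨c.1, hcn⟩).val := fun h => by rw [D_orb _ (w ⟨c.1, hcn⟩).2 h] at hc2; omega
  exact ⟨hcn, (D_facts _ hcn hco1).1.mpr hc1, (D_facts _ (w ⟨c.1, hcn⟩).2 hco2).2.mpr hc2⟩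

/-- The centraliser of the element in the fixed points. -/
theorem cent_x {g : GL T6.I K} (hg : g ∈ (tw hK).fix) (hc : Commute g (xF hK)) :
    g ∈ Subgroup.zpowers (xF hK) ⊔ (psi hK).range := by
  have hT := Data.E6.valid
  obtain ⟨u, huf, hu, l, hl, n, hn, hnf, w, hw, hm, a1, a2, q, hqf, hq, e⟩ := normal_form hK hg
  have hqpos : q ∈ T6.rootGen K (fun r => T6.half ≤ r) := rootGen_mono (fun r _ ⟨_, h, _⟩ => h) hq
  have hp1 : u * l ∈ Psub hK := mul_mem
    (pos_le_P hK (rootGen_mono (fun r _ h => h.1) hu) huf) (L_le_P hK hl)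
  have hboth : ∀ {v : Equiv.Perm (Fin T6.n)}, v ∈ (tw hK).W1 →
      (36 ≤ (v ⟨37, by decide⟩).val ↔ 36 ≤ (v ⟨42, by decide⟩).val) := by
    intro v hv
    have h := (tw hK).W1_comm hv ⟨42, by decide⟩
    rw [rho42 hK] at h
    have hp := (tw hK).pos (v ⟨42, by decide⟩)
    rw [h] at hp
    exact hp
  have hb1 : 36 ≤ (w ⟨42, by decide⟩).val := by
    by_contra hlt
    set w' := w * sW hK with hw'
    have hw'1 : w' ∈ (tw hK).W1 := mul_mem hw (sW_mem hK)
    have e29 : sW hK ⟨42, by decide⟩ = T6.negF ⟨42, by decide⟩ := by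
      refine Fin.ext ?_
      rw [sW_val]
      decide +kernel
    have b1 : 36 ≤ (w' ⟨42, by decide⟩).val := by
      rw [hw', Equiv.Perm.mul_apply, e29, WP_negF hT hw.1]
      exact le_negF (T := T6) (show (w ⟨42, by decide⟩).val < T6.half from not_le.mp hlt)
    have c1 : 36 ≤ (w'⁻¹ ⟨42, by decide⟩).val := by
      rw [hw', mul_inv_rev, Equiv.Perm.mul_apply, sW_inv]
      by_contra h3
      rw [sW_val] at h3
      rcases (sW_facts _ (w⁻¹ ⟨42, by decide⟩).2).1.mp ⟨a1, not_le.mp h3⟩ with h4 | h4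
      · have h5 : w ⟨42, by decide⟩ = (⟨42, by decide⟩ : Fin T6.n) := by
          conv_lhs => rw [show (⟨42, by decide⟩ : Fin T6.n) = w⁻¹ ⟨42, by decide⟩ from Fin.ext h4.symm]
          exact w.apply_symm_apply _
        exact hlt (by rw [h5]; decide)
      · have h5 : w ⟨37, by decide⟩ = (⟨42, by decide⟩ : Fin T6.n) := by
          rw [show (⟨37, by decide⟩ : Fin T6.n) = w⁻¹ ⟨42, by decide⟩ from Fin.ext h4.symm]
          exact w.apply_symm_apply _
        exact hlt ((hboth hw).mp (by rw [h5]; decide))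
    have hm' : T6.Mono (n * (sN hK)⁻¹) w' := by
      have := hm.mul (sN_mono hK).inv
      rwa [sW_inv] at this
    have hc' : Commute (u * l * (n * (sN hK)⁻¹) * (sN hK * q)) (xF hK) := by
      rwa [show u * l * (n * (sN hK)⁻¹) * (sN hK * q) = g by rw [e]; group]
    have hk := perm_commute hK hp1 (mul_mem (L_le_P hK (sN_mem hK)) (pos_le_P hK hqpos hqf))
      (mul_mem hn (inv_mem (sN_N hK))) hm' c1 ((hboth (inv_mem hw'1)).mpr c1) b1 ((hboth hw'1).mpr b1) hc'
    have hor := orb_image hK hw'1 hk b1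
    -- then `w⁻¹` would send a root of the orbit to a negative root
    have key : ∀ (a : ℕ) (ha : a < T6.n), (w' ⟨42, by decide⟩).val = a → (w⁻¹ ⟨a, ha⟩).val = 29 := by
      intro a ha h
      have h2 : w⁻¹ ⟨a, ha⟩ = sW hK ⟨42, by decide⟩ := by
        rw [show (⟨a, ha⟩ : Fin T6.n) = w' ⟨42, by decide⟩ from Fin.ext h.symm, hw', Equiv.Perm.mul_apply]
        exact w.symm_apply_apply _
      rw [h2, e29]
      rfl
    rcases hor with ⟨h, -⟩ | ⟨h, -⟩
    · have := key 42 (by decide) h; omega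
    · have := key 37 (by decide) h; omega
  have hb2 := (hboth hw).mpr hb1
  have hk := perm_commute hK hp1 (pos_le_P hK hqpos hqf) hn hm a1 a2 hb1 hb2 (e ▸ hc)
  have hor := orb_image hK hw hk hb1
  -- the orbit is preserved
  have ho : ∀ a : Fin T6.n, Orb a.val ↔ Orb (w a).val := by
    have hmap : ∀ a : Fin T6.n, Orb a.val → Orb (w a).val := by
      intro a ha
      have hneg : ∀ b : Fin T6.n, (w (T6.negF b)).val = T6.neg (w b).val := fun b => by
        rw [WP_negF hT hw.1]; rfl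
      rcases ha with h | h | h | h
      · rw [show a = (⟨42, by decide⟩ : Fin T6.n) from Fin.ext h]
        rcases hor with ⟨h', -⟩ | ⟨h', -⟩ <;> rw [h'] <;> decide
      · rw [show a = (⟨37, by decide⟩ : Fin T6.n) from Fin.ext h]
        rcases hor with ⟨-, h'⟩ | ⟨-, h'⟩ <;> rw [h'] <;> decide
      · rw [show a = T6.negF (⟨42, by decide⟩ : Fin T6.n) from Fin.ext h, hneg]
        rcases hor with ⟨h', -⟩ | ⟨h', -⟩ <;> rw [h'] <;> decide
      · rw [show a = T6.negF (⟨37, by decide⟩ : Fin T6.n) from Fin.ext h, hneg]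
        rcases hor with ⟨-, h'⟩ | ⟨-, h'⟩ <;> rw [h'] <;> decide
    have hinj : Function.Injective (fun a : {a : Fin T6.n // Orb a.val} => (⟨w a.1, hmap a.1 a.2⟩ : {a : Fin T6.n // Orb a.val})) :=
      fun a b h => Subtype.ext (w.injective (congrArg Subtype.val h))
    intro a
    refine ⟨hmap a, fun h => ?_⟩
    obtain ⟨⟨b, hb⟩, hb'⟩ := Finite.surjective_of_injective hinj ⟨w a, h⟩
    exact w.injective (congrArg Subtype.val hb') ▸ hb
  set x := xF hK with hx
  have hy : n * x * n⁻¹ ∈ Lsub hK := Subgroup.mem_inf.mpr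
    ⟨mul_mem (mul_mem hnf (xF_mem hK).1) (inv_mem hnf),
      conj_mem_rootGen hT hm (fun r h => (ho r).mp h) (xF_mem hK).2⟩
  have hu' : x * u * x⁻¹ ∈ Q K 1 := (conj_xF hK le_rfl hu).1
  have hq' : x * q * x⁻¹ ∈ T6.rootGen K (T6.negSet w) :=
    (Subgroup.mem_normalizer_iff.mp (negSet_normal hK hw ho hb1 hb2 (xF_mem hK).2) q).mp hq
  have hl' : x * l * (n * x * n⁻¹)⁻¹ ∈ Lsub hK := mul_mem (mul_mem (xF_mem hK) hl) (inv_mem hy)
  have he2 : (x * u * x⁻¹) * (x * l * (n * x * n⁻¹)⁻¹) * n * (x * q * x⁻¹) = u * l * n * q := by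
    rw [show (x * u * x⁻¹) * (x * l * (n * x * n⁻¹)⁻¹) * n * (x * q * x⁻¹) = x * (u * l * n * q) * x⁻¹ by group,
      ← e, ← hc.eq, mul_inv_cancel_right]
  obtain ⟨k1, k2, k3⟩ := normal_unique hK
    (u := (x * l * (n * x * n⁻¹)⁻¹)⁻¹ * ((x * u * x⁻¹)⁻¹ * u) * (x * l * (n * x * n⁻¹)⁻¹))
    (l := (x * l * (n * x * n⁻¹)⁻¹)⁻¹ * l) (q := q * (x * q * x⁻¹)⁻¹)
    (by
      have := L_conj_Q hK (inv_mem hl') (mul_mem (inv_mem hu') hu)
      rwa [inv_inv] at this)
    (mul_mem (inv_mem hl') hl) hn hm a1 a2 (mul_mem hq (inv_mem hq'))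
    (by
      calc _ = (x * l * (n * x * n⁻¹)⁻¹)⁻¹ * (x * u * x⁻¹)⁻¹ * (u * l * n * q) * (x * q * x⁻¹)⁻¹ := by group
        _ = _ := by rw [← he2]; group)
  have huc : Commute x u := by
    have h : (x * u * x⁻¹)⁻¹ * u = 1 := by
      have := k1
      rwa [mul_assoc, inv_mul_eq_one, eq_comm, mul_eq_right] at this
    rw [inv_mul_eq_one] at h
    exact mul_inv_eq_iff_eq_mul.mp h
  have hqc : Commute x q := by
    rw [mul_inv_eq_one] at k3
    exact mul_inv_eq_iff_eq_mul.mp k3.symm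
  have hlc : x * l = l * (n * x * n⁻¹) := by
    rw [inv_mul_eq_one] at k2
    exact mul_inv_eq_iff_eq_mul.mp k2
  have hlnc : Commute (l * n) x := by
    show l * n * x = x * (l * n)
    rw [← mul_assoc x l n, hlc]
    group
  have hu2 : u ∈ (psi hK).range := orth_fix_psi hK (cent_Q hK 7 1 le_rfl rfl u hu huc) huf
  have hq2 : q ∈ (psi hK).range :=
    orth_fix_psi hK (cent_Q hK 7 1 le_rfl rfl q (negSet_le_Q hK hb1 hb2 hq) hqc) hqf
  rcases hor with ⟨f1, f2⟩ | ⟨f1, f2⟩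
  · obtain ⟨m, hmr, hmN, hmm⟩ := stab_rep hK hw f1 f2
    have hd : n * m⁻¹ ∈ Lsub hK := by
      refine diag_fix_le hK (Subgroup.mem_inf.mpr ⟨?_, mul_mem hnf (inv_mem (psi_fix hK hmr))⟩)
      refine mem_diag_of_mono_one hT (mul_mem hn (inv_mem hmN)) ?_
      have := hm.mul hmm.inv
      rwa [mul_inv_cancel] at this
    have hmx : Commute m x := psi_commute hK hmr (xF_mem hK).2
    have hlx : Commute (l * (n * m⁻¹)) x := by
      have := hlnc.mul_left hmx.inv_left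
      rwa [mul_assoc] at this
    have hz := cent_Lsub hK (mul_mem hl hd) hlx
    rw [e, show u * l * n * q = u * (l * (n * m⁻¹)) * (m * q) by group]
    exact mul_mem (mul_mem (Subgroup.mem_sup_right hu2) (Subgroup.mem_sup_left hz))
      (Subgroup.mem_sup_right (mul_mem hmr hq2))
  · exact absurd (no_swap hK hm hl f1 f2 hlnc) id

end CfsgLib.Chevalley.TwistE6Five
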