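import Mathlib

/-!
Fusion of elements of order five when one centraliser is `Z₅ × A₈`.
-/

set_option autoImplicit false

namespace CfsgLib.Chevalley.TwistE6Five

open Subgroup

/-- The five cycle. -/
def five : ↥(alternatingGroup (Fin 8)) :=
  ⟨c[(0 : Fin 8), 1, 2, 3, 4], Equiv.Perm.mem_alternatingGroup.mpr (by decide)⟩

/-- An element squaring the five cycle by conjugation. -/
def sq5 : ↥(alternatingGroup (Fin 8)) :=
  ⟨c[(1 : Fin 8), 2, 4, 3] * c[(5 : Fin 8), 6], Equiv.Perm.mem_alternatingGroup.mpr (by decide)⟩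

theorem five_facts : five ^ 5 = 1 ∧ five ≠ 1 ∧ sq5 * five * sq5⁻¹ = five ^ 2 := by decide +kernel

theorem orderOf_five : orderOf five = 5 :=
  haveI : Fact (Nat.Prime 5) := ⟨by norm_num⟩
  orderOf_eq_prime five_facts.1 five_facts.2.1

theorem five_pow_mod (n : ℕ) : five ^ (n % 5) = five ^ n := by
  conv_rhs => rw [← pow_mod_orderOf, orderOf_five]

/-- Representatives of the six lines. -/
def line (l : Fin 6) : ZMod 5 × ZMod 5 := if l.val < 5 then (1, (l.val : ZMod 5)) else (0, 1)

theorem line_cover : ∀ v : ZMod 5 × ZMod 5, v ≠ 0 →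
    ∃ p : Fin 6 × Fin 4, v = (p.2.val + 1) • line p.1 := by decide +kernel

theorem line_inj : ∀ p q : Fin 6 × Fin 4, (p.2.val + 1) • line p.1 = (q.2.val + 1) • line q.1 → p = q := by
  decide +kernel

theorem five_nsmul : ∀ v : ZMod 5 × ZMod 5, 5 • v = 0 := by decide +kernel

theorem line_ne : ∀ p : Fin 6 × Fin 4, (p.2.val + 1) • line p.1 ≠ 0 := by decide +kernel

variable {G : Type*} [Group G] [Finite G]

theorem mod_step {n N k O m : ℕ} (hn : n % 5 = 1) (hm : m % 5 = 2) (hN : N = O * (25 * m))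
    (hG : n * N = 25 * k) (hk : k % 5 = 3) : O % 5 = 4 := by
  subst hN
  have e : k = n * (O * m) := by nlinarith
  subst e
  rw [Nat.mul_mod, hn, one_mul, Nat.mod_mod, Nat.mul_mod, hm] at hk
  omega

theorem normalizer_five :
    ∃ m, m % 5 = 2 ∧ Nat.card ↥(normalizer (zpowers five : Set ↥(alternatingGroup (Fin 8)))) = 5 * m := by
  classical
  have hA : Nat.card ↥(alternatingGroup (Fin 8)) = 20160 := by
    rw [nat_card_alternatingGroup, Nat.card_eq_fintype_card, Fintype.card_fin]
    rfl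
  have : Fact (Nat.Prime 5) := ⟨by norm_num⟩
  have hZ : Nat.card ↥(zpowers five) = 5 := by rw [Nat.card_zpowers, orderOf_five]
  have hf : Nat.factorization 20160 5 = 1 := by
    rw [show 20160 = 5 * 4032 from rfl, Nat.factorization_mul (by norm_num) (by norm_num),
      Finsupp.add_apply, Nat.Prime.factorization_self (by norm_num),
      Nat.factorization_eq_zero_of_not_dvd (by norm_num : ¬ 5 ∣ 4032)]
  let P : Sylow 5 ↥(alternatingGroup (Fin 8)) := Sylow.ofCard (zpowers five) (by rw [hZ, hA, hf, pow_one])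
  have hP : (P : Subgroup _) = zpowers five := Sylow.coe_ofCard _ _
  set Z : Subgroup ↥(alternatingGroup (Fin 8)) := normalizer (zpowers five : Set ↥(alternatingGroup (Fin 8)))
  obtain ⟨m, hm⟩ : 5 ∣ Nat.card ↥Z := hZ ▸ card_dvd_of_le le_normalizer
  refine ⟨m, ?_, hm⟩
  have h1 := card_mul_index Z
  rw [hA, hm] at h1
  have h2 : Z.index % 5 = 1 := by
    have e := P.card_eq_index_normalizer
    simp only [← Sylow.coe_coe, hP] at e
    rw [show Z.index = Nat.card (Sylow 5 ↥(alternatingGroup (Fin 8))) from e.symm]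
    exact card_sylow_modEq_one 5 _
  have h3 : m * Z.index = 4032 := by nlinarith
  have h4 : (m * Z.index) % 5 = 2 := by rw [h3]
  rw [Nat.mul_mod, h2, mul_one, Nat.mod_mod] at h4
  exact h4

/-- All elements of order five are conjugate and have the same centraliser. -/
theorem fusion {k : ℕ} (hG : Nat.card G = 25 * k) (hk : k % 5 = 3) {x : G}
    (f : Multiplicative (ZMod 5) × ↥(alternatingGroup (Fin 8)) ≃* ↥(centralizer ({x} : Set G)))
    (hfx : (f (Multiplicative.ofAdd 1, 1) : G) = x)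
    (hh : ∃ i : ℕ, IsConj (x ^ i) (f (1, five) : G)) :
    (∀ a b : G, orderOf a = 5 → orderOf b = 5 → IsConj a b) ∧
      ∀ a : G, orderOf a = 5 → Nonempty (↥(centralizer ({a} : Set G)) ≃*
        (Multiplicative (ZMod 5) × ↥(alternatingGroup (Fin 8)))) := by
  classical
  have : Fact (Nat.Prime 5) := ⟨by norm_num⟩
  let F : Multiplicative (ZMod 5) × ↥(alternatingGroup (Fin 8)) →* G :=
    (centralizer ({x} : Set G)).subtype.comp f.toMonoidHom
  have hF : Function.Injective F := (Subgroup.subtype_injective _).comp f.injective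
  have hFx : F (Multiplicative.ofAdd 1, 1) = x := hfx
  have hFC : ∀ p, F p * x = x * F p := fun p =>
    mem_centralizer_singleton_iff.mp (f p).2
  have hCF : ∀ g : G, g * x = x * g → ∃ p, F p = g := fun g hg =>
    ⟨f.symm ⟨g, mem_centralizer_singleton_iff.mpr hg⟩, by
      show ((f (f.symm _)) : G) = g
      rw [f.apply_symm_apply]⟩
  set h : G := F (1, five) with hhdef
  -- the vectors
  let ι : ZMod 5 × ZMod 5 → G := fun v => F (Multiplicative.ofAdd v.1, five ^ v.2.val)
  have hι : Function.Injective ι := by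
    intro v w e
    obtain ⟨e1, e2⟩ := Prod.ext_iff.mp (hF e)
    refine Prod.ext (Multiplicative.ofAdd.injective e1) ?_
    exact ZMod.val_injective _ (pow_injOn_Iio_orderOf
      (by rw [orderOf_five]; exact ZMod.val_lt v.2) (by rw [orderOf_five]; exact ZMod.val_lt w.2) e2)
  have hι0 : ι 0 = 1 := by simp [ι, ← Prod.one_eq_mk]
  have hιpow : ∀ (v : ZMod 5 × ZMod 5) (n : ℕ), ι v ^ n = ι (n • v) := by
    intro v n
    simp only [ι, ← map_pow, Prod.pow_mk, ← ofAdd_nsmul, Prod.smul_fst, Prod.smul_snd]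
    congr 2
    rw [← pow_mul, nsmul_eq_mul, ZMod.val_mul, ZMod.val_natCast, Nat.mod_mul_mod, mul_comm n,
      five_pow_mod]
  have hιx : ι (1, 0) = x := by simp [ι, hFx]
  have hιh : ι (0, 1) = h := by simp [ι, hhdef, show (1 : ZMod 5).val = 1 from rfl]
  -- conjugacy of powers
  have hh2 : IsConj h (h ^ 2) := by
    refine isConj_iff.mpr ⟨F (1, sq5), ?_⟩
    rw [hhdef, ← map_inv, ← map_mul, ← map_mul, ← map_pow]
    simp [five_facts.2.2]
  have hh5 : h ^ 5 = 1 := by rw [hhdef, ← map_pow]; simp [five_facts.1, ← Prod.one_eq_mk]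
  have hmod : ∀ n, h ^ (n % 5) = h ^ n := fun n => by
    conv_rhs => rw [← Nat.mod_add_div n 5, pow_add, pow_mul, hh5, one_pow, mul_one]
  have hhj : ∀ j, j % 5 ≠ 0 → IsConj h (h ^ j) := by
    have h4 : IsConj h (h ^ 4) := hh2.trans (by
      have := hh2.pow 2
      rwa [← pow_mul] at this)
    have h3 : IsConj h (h ^ 3) := h4.trans (by
      have := hh2.pow 4
      rwa [← pow_mul, ← hmod (2 * 4)] at this)
    intro j hj
    rw [← hmod j]
    have : j % 5 < 5 := Nat.mod_lt _ (by norm_num)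
    interval_cases h' : j % 5
    · exact absurd rfl hj
    · rw [pow_one]
    · exact hh2
    · exact h3
    · exact h4
  have hh1 : h ≠ 1 := fun e => five_facts.2.1 (congrArg Prod.snd (hF (e.trans (map_one F).symm)))
  have hx5 : x ^ 5 = 1 := by
    rw [← hιx, hιpow]
    rw [five_nsmul, hι0]
  have hxh : IsConj x h := by
    obtain ⟨i, hi⟩ := hh
    change IsConj (x ^ i) h at hi
    have hmodx : ∀ n, x ^ (n % 5) = x ^ n := fun n => by
      conv_rhs => rw [← Nat.mod_add_div n 5, pow_add, pow_mul, hx5, one_pow, mul_one]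
    have hi0 : i % 5 ≠ 0 := by
      intro e
      rw [← hmodx, e, pow_zero, isConj_one_right] at hi
      exact hh1 hi
    obtain ⟨j, hj, hj0⟩ : ∃ j, i * j % 5 = 1 ∧ j % 5 ≠ 0 := by
      have : i % 5 < 5 := Nat.mod_lt _ (by norm_num)
      interval_cases h' : i % 5
      · exact absurd rfl hi0
      · exact ⟨1, by omega, by norm_num⟩
      · exact ⟨3, by omega, by norm_num⟩
      · exact ⟨2, by omega, by norm_num⟩
      · exact ⟨4, by omega, by norm_num⟩
    have e := hi.pow j
    rw [← pow_mul, ← hmodx, hj, pow_one] at e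
    exact e.trans (hhj j hj0).symm
  -- the Sylow subgroup
  let E : Subgroup G := ((⊤ : Subgroup (Multiplicative (ZMod 5))).prod (zpowers five)).map F
  have hEmem : ∀ z, z ∈ E ↔ ∃ v, ι v = z := by
    intro z
    constructor
    · rintro ⟨⟨a, b⟩, ⟨-, hb⟩, rfl⟩
      obtain ⟨n, rfl⟩ : ∃ n : ℕ, five ^ n = b :=
        mem_powers_iff_mem_zpowers.mpr hb
      refine ⟨(a.toAdd, (n : ZMod 5)), ?_⟩
      show F _ = _
      rw [ZMod.val_natCast, five_pow_mod]
      rfl
    · rintro ⟨v, rfl⟩
      exact mem_map_of_mem F ⟨mem_top _, pow_mem (mem_zpowers five) _⟩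
  have hEcard : Nat.card ↥E = 25 := by
    rw [card_map_of_injective hF, Nat.card_congr (Subgroup.prodEquiv _ _).toEquiv, Nat.card_prod,
      card_top, Nat.card_zpowers, orderOf_five]
    simp
  have hfac : (Nat.card G).factorization 5 = 2 := by
    rw [hG, Nat.factorization_mul (by norm_num) (by intro e; rw [e] at hk; norm_num at hk),
      Finsupp.add_apply, Nat.factorization_eq_zero_of_not_dvd (n := k) (by omega),
      show 25 = 5 ^ 2 from rfl, Nat.Prime.factorization_pow (by norm_num), Finsupp.single_eq_same]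
  let P : Sylow 5 G := Sylow.ofCard E (by rw [hEcard, hfac]; rfl)
  have hP : (P : Subgroup G) = E := Sylow.coe_ofCard _ _
  have : IsMulCommutative ↥(P : Subgroup G) := ⟨⟨fun a b => by
    obtain ⟨⟨a1, a2⟩, ⟨-, ha⟩, ea⟩ := (hP ▸ a.2 : (a : G) ∈ E)
    obtain ⟨⟨b1, b2⟩, ⟨-, hb⟩, eb⟩ := (hP ▸ b.2 : (b : G) ∈ E)
    obtain ⟨i, rfl⟩ := hb
    obtain ⟨j, rfl⟩ := ha
    refine Subtype.ext ?_
    simp only [Subgroup.coe_mul, ← ea, ← eb, ← map_mul, Prod.mk_mul_mk, mul_comm a1,
      ← zpow_add, add_comm j]⟩⟩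
  set N : Subgroup G := normalizer (E : Set G) with hNdef
  have hxE : x ∈ E := (hEmem x).mpr ⟨_, hιx⟩
  let : MulAction ↥N G := MulAction.compHom G (MulAut.conj.comp N.subtype)
  have hsmul : ∀ (n : ↥N) (z : G), n • z = (n : G) * z * (n : G)⁻¹ := fun _ _ => rfl
  have horb : ∀ z, z ∈ MulAction.orbit ↥N x ↔ z ∈ E ∧ IsConj x z := by
    intro z
    constructor
    · rintro ⟨n, rfl⟩
      exact ⟨(mem_normalizer_iff.mp n.2 x).mp hxE, isConj_iff.mpr ⟨n, rfl⟩⟩
    · rintro ⟨hz, hc⟩
      obtain ⟨g, hg⟩ := isConj_iff.mp hc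
      obtain ⟨n, hn, e⟩ := P.conj_eq_normalizer_conj_of_mem x g⁻¹ (by rw [← SetLike.mem_coe, ← Sylow.coe_coe, hP]; exact hxE)
        (by rw [inv_inv, hg, ← SetLike.mem_coe, ← Sylow.coe_coe, hP]; exact hz)
      rw [inv_inv, hg] at e
      have hn' : n⁻¹ ∈ N := inv_mem (by
        have e2 : ((P : Sylow 5 G) : Set G) = (E : Set G) := congrArg (fun H : Subgroup G => (H : Set G)) hP
        rw [hNdef, ← e2]
        exact hn)
      exact ⟨⟨n⁻¹, hn'⟩, by show n⁻¹ * x * n⁻¹⁻¹ = z; rw [inv_inv]; exact e.symm⟩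
  -- the stabiliser
  obtain ⟨m, hm, hm5⟩ := normalizer_five
  have hst : Nat.card ↥(MulAction.stabilizer ↥N x) = 25 * m := by
    have e : (MulAction.stabilizer ↥N x).map N.subtype =
        ((⊤ : Subgroup (Multiplicative (ZMod 5))).prod (normalizer (zpowers five : Set ↥(alternatingGroup (Fin 8))))).map F := by
      ext g
      constructor
      · rintro ⟨n, hn, rfl⟩
        rw [SetLike.mem_coe, MulAction.mem_stabilizer_iff, hsmul, mul_inv_eq_iff_eq_mul] at hn
        obtain ⟨⟨i, p⟩, hp⟩ := hCF _ hn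
        refine ⟨(i, p), ⟨mem_top _, ?_⟩, hp⟩
        show p ∈ normalizer (zpowers five : Set ↥(alternatingGroup (Fin 8)))
        rw [mem_normalizer_iff]
        intro z
        have key : ∀ w, F (1, w) ∈ E ↔ w ∈ zpowers five := fun w => by
          refine ⟨?_, fun hw => mem_map_of_mem F ⟨mem_top _, hw⟩⟩
          rintro ⟨q, hq, e⟩
          obtain rfl := hF e
          exact hq.2
        have hc := mem_normalizer_iff.mp n.2 (F (1, z))
        rw [show ((n : G)) = F (i, p) from hp.symm, ← map_inv, ← map_mul, ← map_mul] at hc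
        simp only [Prod.inv_mk, Prod.mk_mul_mk, mul_one, mul_inv_cancel] at hc ⊢
        rw [← key, ← key]
        exact hc
      · rintro ⟨⟨i, p⟩, ⟨-, hp⟩, rfl⟩
        have hN : F (i, p) ∈ N := by
          rw [mem_normalizer_iff]
          intro z
          have key : ∀ (a : Multiplicative (ZMod 5)) (q : ↥(alternatingGroup (Fin 8))),
              q ∈ normalizer (zpowers five : Set ↥(alternatingGroup (Fin 8))) → ∀ w ∈ E,
              F (a, q) * w * (F (a, q))⁻¹ ∈ E := by
            rintro a q hq _ ⟨⟨b, r⟩, ⟨-, hr⟩, rfl⟩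
            rw [← map_inv, ← map_mul, ← map_mul]
            exact mem_map_of_mem F ⟨mem_top _, (mem_normalizer_iff.mp hq r).mp hr⟩
          refine ⟨key i p hp z, fun hz => ?_⟩
          have := key i⁻¹ p⁻¹ (inv_mem hp) _ hz
          rwa [← Prod.inv_mk, map_inv, inv_inv, ← mul_assoc, ← mul_assoc, inv_mul_cancel, one_mul,
            inv_mul_cancel_right] at this
        refine ⟨⟨_, hN⟩, ?_, rfl⟩
        rw [SetLike.mem_coe, MulAction.mem_stabilizer_iff, hsmul, mul_inv_eq_iff_eq_mul]
        exact hFC _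
    have h1 := congrArg (fun H : Subgroup G => Nat.card ↥H) e
    simp only [card_map_of_injective N.subtype_injective, card_map_of_injective hF,
      Nat.card_congr (Subgroup.prodEquiv _ _).toEquiv, Nat.card_prod, card_top, hm5] at h1
    rw [h1]
    simp
    ring
  -- the orbit
  have hO : Nat.card ↥(MulAction.orbit ↥N x) % 5 = 4 := by
    refine mod_step (n := Nat.card (Sylow 5 G)) (card_sylow_modEq_one 5 G) hm (N := Nat.card ↥N) ?_ ?_ hk
    · rw [← hst, Nat.card_congr (MulAction.orbitEquivQuotientStabilizer ↥N x),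
        ← card_eq_card_quotient_mul_card_subgroup]
    · rw [P.card_eq_index_normalizer, mul_comm]
      simp only [← Sylow.coe_coe, hP]
      rw [card_mul_index, hG]
  let good : Fin 6 → Prop := fun l => IsConj x (ι (line l))
  have hxpow : ∀ j, j % 5 ≠ 0 → IsConj x (x ^ j) := fun j hj =>
    (hxh.trans (hhj j hj)).trans (hxh.pow j).symm
  have hclosed : ∀ p : Fin 6 × Fin 4, (ι ((p.2.val + 1) • line p.1) ∈ MulAction.orbit ↥N x ↔ good p.1) := by
    intro p
    rw [horb, ← hιpow]
    have hp : (p.2.val + 1) % 5 ≠ 0 := by omega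
    refine ⟨fun ⟨_, hc⟩ => ?_, fun hc => ⟨(hEmem _).mpr ⟨_, (hιpow _ _).symm⟩, ?_⟩⟩
    · obtain ⟨j, hj, hj0⟩ : ∃ j, (p.2.val + 1) * j % 5 = 1 ∧ j % 5 ≠ 0 := by
        have key : ∀ c : Fin 4, ∃ j : Fin 5, (c.val + 1) * j.val % 5 = 1 ∧ j.val % 5 ≠ 0 := by decide
        obtain ⟨j, hj⟩ := key p.2
        exact ⟨j, hj⟩
      have e := hc.pow j
      rw [← pow_mul] at e
      have e5 : ι (line p.1) ^ ((p.2.val + 1) * j) = ι (line p.1) := by
        rw [← Nat.mod_add_div ((p.2.val + 1) * j) 5, hj, pow_add, pow_one, pow_mul, hιpow _ 5,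
          five_nsmul, hι0, one_pow, mul_one]
      rw [e5] at e
      exact (hxpow j hj0).trans e
    · exact (hxpow _ hp).trans (hc.pow _)
  have hcount : Nat.card ↥(MulAction.orbit ↥N x) = 4 * Nat.card {l // good l} := by
    rw [show 4 * Nat.card {l // good l} = Nat.card ({l // good l} × Fin 4) by
      rw [Nat.card_prod, Nat.card_fin]; ring]
    refine (Nat.card_eq_of_bijective
      (fun p => (⟨ι ((p.2.val + 1) • line p.1.1), (hclosed (p.1.1, p.2)).mpr p.1.2⟩ : ↥(MulAction.orbit ↥N x)))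
      ⟨?_, ?_⟩).symm
    · rintro ⟨⟨l, hl⟩, c⟩ ⟨⟨l', hl'⟩, c'⟩ e
      have := line_inj (l, c) (l', c') (hι (show ι ((c.val + 1) • line l) = ι ((c'.val + 1) • line l')
        from congrArg (fun z : ↥(MulAction.orbit ↥N x) => (z : G)) e))
      simp only [Prod.mk.injEq] at this
      obtain ⟨rfl, rfl⟩ := this
      rfl
    · rintro ⟨z, hz⟩
      obtain ⟨hzE, hzc⟩ := (horb z).mp hz
      obtain ⟨v, rfl⟩ := (hEmem z).mp hzE
      obtain ⟨p, rfl⟩ := line_cover v (fun e => by
        rw [e, hι0, isConj_one_left] at hzc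
        exact hh1 (isConj_one_right.mp (hzc ▸ hxh)))
      exact ⟨(⟨p.1, (hclosed p).mp hz⟩, p.2), rfl⟩
  have hall : ∀ l, good l := by
    have h2 : 2 ≤ Nat.card {l // good l} := by
      have g0 : good 0 := by
        show IsConj x (ι (1, ((0 : ℕ) : ZMod 5)))
        rw [Nat.cast_zero, hιx]
      have g5 : good 5 := by
        show IsConj x (ι (0, 1))
        rw [hιh]
        exact hxh
      rw [Nat.card_eq_fintype_card]
      exact Fintype.one_lt_card_iff.mpr ⟨⟨0, g0⟩, ⟨5, g5⟩, by simp⟩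
    have h6 : Nat.card {l // good l} ≤ 6 :=
      (Nat.card_le_card_of_injective _ Subtype.val_injective).trans_eq (Nat.card_fin 6)
    rw [hcount] at hO
    have h7 : Nat.card {l // good l} = Nat.card (Fin 6) := by rw [Nat.card_fin]; omega
    intro l
    obtain ⟨y, hy⟩ := ((Nat.bijective_iff_injective_and_card _).mpr
      ⟨Subtype.val_injective (p := good), h7⟩).2 l
    exact hy ▸ y.2
  have hx_all : ∀ a : G, orderOf a = 5 → IsConj x a := by
    intro a ha
    obtain ⟨Q, hQ⟩ := (IsPGroup.of_card (n := 1) (show Nat.card ↥(zpowers a) = 5 ^ 1 by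
      rw [Nat.card_zpowers, ha, pow_one])).exists_le_sylow
    obtain ⟨g, hg⟩ := MulAction.exists_smul_eq G Q P
    have hmem : g * a * g⁻¹ ∈ E := by
      rw [← hP, ← hg, Sylow.coe_subgroup_smul]
      exact ⟨a, hQ (mem_zpowers a), rfl⟩
    obtain ⟨v, hv⟩ := (hEmem _).mp hmem
    obtain ⟨p, rfl⟩ := line_cover v (fun e => by
      rw [e, hι0, eq_comm, conj_eq_one_iff] at hv
      rw [hv, orderOf_one] at ha
      norm_num at ha)
    have h2 := ((horb _).mp ((hclosed p).mpr (hall p.1))).2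
    rw [hv] at h2
    exact h2.trans (isConj_iff.mpr ⟨g⁻¹, by group⟩)
  refine ⟨fun a b ha hb => (hx_all a ha).symm.trans (hx_all b hb), fun a ha => ?_⟩
  obtain ⟨g, hg⟩ := isConj_iff.mp (hx_all a ha)
  have e : (centralizer ({x} : Set G)).map (MulAut.conj g).toMonoidHom = centralizer {a} := by
    rw [← hg]
    ext z
    constructor
    · rintro ⟨c, hc, rfl⟩
      have hc' := mem_centralizer_singleton_iff.mp hc
      refine mem_centralizer_singleton_iff.mpr ?_
      simp only [MulEquiv.coe_toMonoidHom, MulAut.conj_apply]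
      calc g * c * g⁻¹ * (g * x * g⁻¹) = g * (c * x) * g⁻¹ := by group
        _ = g * (x * c) * g⁻¹ := by rw [hc']
        _ = _ := by group
    · intro hz
      have hz' := mem_centralizer_singleton_iff.mp hz
      refine ⟨g⁻¹ * z * g, mem_centralizer_singleton_iff.mpr ?_, by simp [mul_assoc]⟩
      calc g⁻¹ * z * g * x = g⁻¹ * (z * (g * x * g⁻¹)) * g := by group
        _ = g⁻¹ * (g * x * g⁻¹ * z) * g := by rw [hz']
        _ = _ := by group
  exact ⟨(f.trans (((MulAut.conj g).subgroupMap _).trans (MulEquiv.subgroupCongr e))).symm⟩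

end CfsgLib.Chevalley.TwistE6Five
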