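import Cfsg.Agent.Lib.Chevalley.TwistE6Five.Roots
import Cfsg.Agent.Lib.Chevalley.Twist.OrbitProd
import Cfsg.Agent.Lib.KnownA.StSLUniv
import Cfsg.Agent.Lib.Sporadic.LinearEight

/-!
The alternating group of degree eight on the roots orthogonal to the short root orbit.
-/

set_option autoImplicit false
set_option maxRecDepth 20000
set_option Elab.async false

namespace CfsgLib.Chevalley.TwistE6Five

open Tbl

open scoped commutatorElement

theorem exists_sl_iso : Nonempty (↥(alternatingGroup (Fin 8)) ≃*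
    Matrix.SpecialLinearGroup (Fin 4) (ZMod 2)) := by
  obtain ⟨e⟩ := CfsgLib.Sporadic.LinearEight.psl_four_two (F := ZMod 2) (ZMod.card 2)
  have h1 := CfsgLib.Classical.card_center_sl (F := ZMod 2) 4 (by norm_num)
  rw [ZMod.card 2, show Nat.gcd 4 (2 - 1) = 1 from rfl] at h1
  have hcent : Subgroup.center (Matrix.SpecialLinearGroup (Fin 4) (ZMod 2)) = ⊥ := Subgroup.card_eq_one.1 h1
  exact ⟨e.symm.trans ((QuotientGroup.quotientMulEquivOfEq hcent).trans QuotientGroup.quotientBot)⟩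

/-- The roots of the orthogonal system, indexed as in `SL₄`. -/
def rt (i j : Fin 4) : ℕ :=
  ([[0, 46, 63, 71], [25, 0, 60, 70], [8, 11, 0, 53], [0, 1, 18, 0]].getD i.val []).getD j.val 0

theorem rt_facts : ∀ i j : Fin 4, i ≠ j → rt i j < 72 ∧ Orth (rt i j) ∧ ¬ Orb (rt i j) ∧
    Data.E6.graph.ρ (rt i j) = rt i j ∧
    ∀ a ∈ [42, 37, 29, 34], a ≠ T6.neg (rt i j) ∧ T6.commT (rt i j) a = [] := by
  decide +kernel

theorem rt_onto : ∀ r < 72, Orth r → ∃ i j : Fin 4, i ≠ j ∧ rt i j = r := by decide +kernel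

theorem rt_comm : ∀ i j k l : Fin 4, i ≠ j → k ≠ l → i ≠ l → j ≠ k →
    rt k l ≠ T6.neg (rt i j) ∧ T6.commT (rt i j) (rt k l) = [] := by
  decide +kernel

theorem rt_mix : ∀ i j k : Fin 4, i ≠ j → j ≠ k → i ≠ k →
    rt i j ≠ rt j k ∧ rt i j ≠ T6.neg (rt j k) ∧
      ∃ N ∈ [(1 : ℤ), -1], T6.commT (rt j k) (rt i j) = [(rt i k, N, 1, 1)] := by
  decide +kernel

variable {K : Type*} [Field K] [Finite K] (hK : Nat.card K = 4)
include hK

theorem exists_psi : ∃ ψ : ↥(alternatingGroup (Fin 8)) →* GL T6.I K, Function.Injective ψ ∧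
    ψ.range ≤ (tw hK).fix ∧ ψ.range ≤ T6.rootGen K (fun r => Orth r) ∧
    (∀ r < 72, Orth r → T6.xU K r 1 ∈ ψ.range) ∧
    ψ.range ≤ Subgroup.centralizer (T6.rootGen K Orb : Set (GL T6.I K)) := by
  classical
  have hT := Data.E6.valid
  have hC := Data.E6.chkComm
  obtain ⟨e⟩ := exists_sl_iso
  let c : ZMod 2 → K := fun t => (t.val : K)
  have hc0 : c 0 = 0 := by simp [c]
  have hc1 : c 1 = 1 := by
    show (((1 : ZMod 2).val : ℕ) : K) = 1
    rw [show (1 : ZMod 2).val = 1 from rfl, Nat.cast_one]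
  have hadd : ∀ t u, c (t + u) = c t + c u := by
    intro t u
    fin_cases t <;> fin_cases u
    · show c 0 = c 0 + c 0; simp [hc0]
    · show c 1 = c 0 + c 1; simp [hc0]
    · show c 1 = c 1 + c 0; simp [hc0]
    · show c 0 = c 1 + c 1; rw [hc0, hc1, add_self hK]
  have hmul : ∀ t u, c (t * u) = c t * c u := by
    intro t u
    fin_cases t <;> fin_cases u
    · show c 0 = c 0 * c 0; simp [hc0]
    · show c 0 = c 0 * c 1; simp [hc0]
    · show c 0 = c 1 * c 0; simp [hc0]
    · show c 1 = c 1 * c 1; simp [hc1]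
  have hsq : ∀ t, c t ^ 2 = c t := fun t => by
    rw [pow_two, ← hmul]
    congr 1
    revert t
    decide
  let y : Fin 4 → Fin 4 → ZMod 2 → GL T6.I K := fun i j t => T6.xU K (rt i j) (c t)
  have hy : CfsgLib.KnownA.StSL.PreSt y := by
    refine ⟨?_, ?_, ?_⟩
    · intro i j t u h
      show T6.xU K _ _ * T6.xU K _ _ = T6.xU K _ _
      rw [xU_add hT (rt_facts i j h).1, hadd]
    · intro i j k l t u h1 h2 h3 h4
      obtain ⟨a, b⟩ := rt_comm i j k l h1 h2 h3 h4
      exact commute_xU hT hC (rt_facts i j h1).1 (rt_facts k l h2).1 a (by rw [b]; simp) _ _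
    · intro i j k t u h1 h2 h3
      obtain ⟨a, b, N, hN, hc⟩ := rt_mix i j k h1 h2 h3
      have hi := (rt_facts i j h1).1
      have hk := (rt_facts j k h2).1
      have hik := (rt_facts i k h3).1
      have e1 := comm_xU hT hC hk hi a b (c u) (c t)
      rw [hc, List.map_singleton, List.prod_singleton, sign_cast hK (by simpa using hN)] at e1
      simp only [one_mul, pow_one, neg_eq hK] at e1
      rw [mul_comm (c u), ← hmul] at e1
      have hca : Commute (T6.xU K (rt i k) (c (t * u))) (T6.xU K (rt i j) (c t)) := by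
        obtain ⟨a', b'⟩ := rt_comm i k i j h3 h1 h1 (Ne.symm h3)
        exact commute_xU hT hC hik hi a' (by rw [b']; simp) _ _
      have hcb : Commute (T6.xU K (rt i k) (c (t * u))) (T6.xU K (rt j k) (c u)) := by
        obtain ⟨a', b'⟩ := rt_comm i k j k h3 h2 h3 (Ne.symm h2)
        exact commute_xU hT hC hik hk a' (by rw [b']; simp) _ _
      show ⁅T6.xU K (rt i j) (c t), T6.xU K (rt j k) (c u)⁆ = T6.xU K (rt i k) (c (t * u))
      rw [commutatorElement_def, e1, mul_assoc _ _ (T6.xU K (rt i k) _), ← hca.eq]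
      calc T6.xU K (rt j k) (c u) * (T6.xU K (rt i k) (c (t * u)) * T6.xU K (rt i j) (c t)) *
            (T6.xU K (rt i j) (c t))⁻¹ * (T6.xU K (rt j k) (c u))⁻¹
          = T6.xU K (rt j k) (c u) * T6.xU K (rt i k) (c (t * u)) * (T6.xU K (rt j k) (c u))⁻¹ := by group
        _ = _ := by rw [← hcb.eq, mul_inv_cancel_right]
  obtain ⟨φ, hφ⟩ := CfsgLib.KnownA.StSL.exists_hom (by rw [Fintype.card_fin]; norm_num) hy
  let ψ := φ.comp e.toMonoidHom
  have hrange : ∀ (P : Subgroup (GL T6.I K)), (∀ i j : Fin 4, i ≠ j → ∀ t, y i j t ∈ P) → ψ.range ≤ P := by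
    rintro P hP _ ⟨g, rfl⟩
    show φ (e g) ∈ P
    induction e g using CfsgLib.Classical.sl_transvection_induction with
    | h1 => rw [map_one]; exact one_mem _
    | htransvec i j h t => rw [hφ i j h t]; exact hP i j h t
    | hmul A B hA hB => rw [map_mul]; exact mul_mem hA hB
  have hgen : ∀ r < 72, Orth r → T6.xU K r 1 ∈ ψ.range := by
    intro r hr ho
    obtain ⟨i, j, h, rfl⟩ := rt_onto r hr ho
    refine ⟨e.symm (Matrix.SpecialLinearGroup.transvection h 1), ?_⟩
    show φ (e (e.symm _)) = _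
    rw [e.apply_symm_apply, hφ i j h 1]
    show T6.xU K _ (c 1) = _
    rw [hc1]
  refine ⟨ψ, ?_, hrange _ fun i j h t => ?_, hrange _ fun i j h t => ?_, hgen, hrange _ fun i j h t => ?_⟩
  · haveI : IsSimpleGroup ↥(alternatingGroup (Fin 8)) :=
      alternatingGroup.isSimpleGroup (by rw [Nat.card_fin]; norm_num)
    rw [← MonoidHom.ker_eq_bot_iff]
    refine (inferInstance : ψ.ker.Normal).eq_bot_or_eq_top.resolve_right fun htop => ?_
    obtain ⟨g, hg⟩ := hgen 46 (by norm_num) (by decide +kernel)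
    rw [MonoidHom.mem_ker.1 (htop ▸ Subgroup.mem_top g : g ∈ ψ.ker), ← xU_zero hT (r := 46) (by decide)] at hg
    exact zero_ne_one (xU_inj hT (by decide) hg)
  · obtain ⟨hlt, -, -, hρ, -⟩ := rt_facts i j h
    refine ⟨xU_mem_group hT hlt _, ?_⟩
    show (tw hK).sg (T6.xU K (rt i j) (c t)) = T6.xU K (rt i j) (c t)
    rw [sg_root hK hlt, hρ, hsq]
  · exact xU_mem_rootGen (rt_facts i j h).1 (rt_facts i j h).2.1 _
  · obtain ⟨hlt, -, -, -, hcm⟩ := rt_facts i j h
    show T6.xU K _ _ ∈ _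
    rw [Subgroup.mem_centralizer_iff]
    intro z hz
    have key : T6.rootGen K Orb ≤ Subgroup.centralizer {T6.xU K (rt i j) (c t)} := by
      refine rootGen_le fun a han ha v => Subgroup.mem_centralizer_singleton_iff.mpr ?_
      obtain ⟨a', b'⟩ := hcm a (by simpa using ha)
      exact (commute_xU hT hC hlt han a' (by rw [b']; simp) (c t) v).eq.symm
    exact Subgroup.mem_centralizer_singleton_iff.mp (key hz)

/-- The embedding of the alternating group. -/
noncomputable def psi : ↥(alternatingGroup (Fin 8)) →* GL T6.I K := (exists_psi hK).choose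

theorem psi_inj : Function.Injective (psi hK) := (exists_psi hK).choose_spec.1

theorem psi_fix : (psi hK).range ≤ (tw hK).fix := (exists_psi hK).choose_spec.2.1

theorem psi_orth : (psi hK).range ≤ T6.rootGen K (fun r => Orth r) := (exists_psi hK).choose_spec.2.2.1

theorem xU_mem_psi {r : ℕ} (hr : r < 72) (ho : Orth r) : T6.xU K r 1 ∈ (psi hK).range :=
  (exists_psi hK).choose_spec.2.2.2.1 r hr ho

theorem psi_commute {a g : GL T6.I K} (ha : a ∈ (psi hK).range) (hg : g ∈ T6.rootGen K Orb) :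
    Commute a g :=
  (Subgroup.mem_centralizer_iff.mp ((exists_psi hK).choose_spec.2.2.2.2 ha) g hg).symm

theorem psi_center {a : ↥(alternatingGroup (Fin 8))}
    (h : ∀ b, Commute (psi hK a) (psi hK b)) : a = 1 := by
  haveI : IsSimpleGroup ↥(alternatingGroup (Fin 8)) :=
    alternatingGroup.isSimpleGroup (by rw [Nat.card_fin]; norm_num)
  have hm : a ∈ Subgroup.center ↥(alternatingGroup (Fin 8)) := Subgroup.mem_center_iff.mpr fun b =>
    psi_inj hK (by rw [map_mul, map_mul]; exact (h b).eq.symm)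
  rcases (inferInstance : (Subgroup.center ↥(alternatingGroup (Fin 8))).Normal).eq_bot_or_eq_top with e | e
  · rw [e] at hm; exact Subgroup.mem_bot.mp hm
  · exfalso
    have hc := Subgroup.mem_center_iff.mp (e ▸ Subgroup.mem_top (⟨c[(0 : Fin 8), 1, 2],
      Equiv.Perm.mem_alternatingGroup.mpr (by decide)⟩ : ↥(alternatingGroup (Fin 8))))
      ⟨c[(2 : Fin 8), 3, 4], Equiv.Perm.mem_alternatingGroup.mpr (by decide)⟩
    have h2 : (c[(2 : Fin 8), 3, 4] * c[(0 : Fin 8), 1, 2] : Equiv.Perm (Fin 8)) ≠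
        c[(0 : Fin 8), 1, 2] * c[(2 : Fin 8), 3, 4] := by decide
    exact h2 (congrArg Subtype.val hc)

end CfsgLib.Chevalley.TwistE6Five
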