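import Cfsg.Agent.Lib.Chevalley.TwistE6Five.Roots
import Cfsg.Agent.Lib.Chevalley.Twist.OrbitProd

/-!
The fixed points of the element of order five on the unipotent radical of the short root parabolic,
layer by layer.
-/

set_option autoImplicit false
set_option maxRecDepth 20000
set_option Elab.async false

namespace CfsgLib.Chevalley.TwistE6Five

open Tbl

variable {K : Type*} [Field K]

theorem D_add {u r s : ℕ} {i j : ℤ} (h : ∀ k < T6.rank, T6.co u k = i * T6.co r k + j * T6.co s k) :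
    D u = i * D r + j * D s := by
  unfold D
  rw [h 0 (by decide), h 1 (by decide), h 3 (by decide), h 5 (by decide)]
  ring

theorem D_neg : ∀ r < 72, D (T6.neg r) = -D r := by decide +kernel

/-- The grading of the adjoint basis. -/
def gr : T6.I → ℤ := Sum.elim (fun _ => 0) fun v => D v.val

/-- Matrices raising the degree by at least `d`. -/
def Raise (d : ℕ) (g : GL T6.I K) : Prop :=
  ∀ row col, gr row < gr col + ((max d 1 : ℕ) : ℤ) → (g : Matrix T6.I T6.I K) row col = (1 : Matrix T6.I T6.I K) row col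

theorem Raise.mul {d : ℕ} {g g' : GL T6.I K} (h : Raise d g) (h' : Raise d g') : Raise d (g * g') := by
  intro row col hlt
  rw [Units.val_mul, Matrix.mul_apply, Finset.sum_eq_single col]
  · rw [h row col hlt, h' col col (by omega), Matrix.one_apply_eq, mul_one]
  · intro k _ hk
    by_cases h1 : gr k < gr col + ((max d 1 : ℕ) : ℤ)
    · rw [h' k col h1, Matrix.one_apply_ne hk, mul_zero]
    · rw [h row k (by omega), Matrix.one_apply_ne, zero_mul]
      rintro rfl; omega
  · simp

/-- The subgroup of such matrices. -/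
def raiseSub (d : ℕ) : Subgroup (GL T6.I K) where
  carrier := {g | Raise d g ∧ Raise d g⁻¹}
  mul_mem' := fun h h' => ⟨h.1.mul h'.1, by rw [mul_inv_rev]; exact h'.2.mul h.2⟩
  one_mem' := ⟨fun _ _ _ => by simp, fun _ _ _ => by simp⟩
  inv_mem' := fun h => ⟨h.2, by rw [inv_inv]; exact h.1⟩

/-- The positive roots of degree at least `d`. -/
abbrev Pd (d : ℕ) (r : ℕ) : Prop := 36 ≤ r ∧ (d : ℤ) ≤ D r

/-- The group of the roots of degree at least `d`. -/
abbrev Q (K : Type*) [Field K] (d : ℕ) : Subgroup (GL T6.I K) := T6.rootGen K (Pd d)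

theorem closed_Pd (d : ℕ) : T6.Closed (Pd d) := by
  intro r hr s hs ⟨hr1, hr2⟩ ⟨hs1, hs2⟩ _ _ c hc
  obtain ⟨hi, hj, hco⟩ := commT_co Data.E6.valid hr hs c hc
  have hg := (commT_gt Data.E6.valid hr hs hr1 hs1 c hc).1
  refine ⟨by omega, ?_⟩
  rw [D_add hco]
  have h1 : (1 : ℤ) ≤ c.2.2.1 := by exact_mod_cast hi
  have h2 : (1 : ℤ) ≤ c.2.2.2 := by exact_mod_cast hj
  have h0 : (0 : ℤ) ≤ d := Int.natCast_nonneg d
  nlinarith

theorem xU_raise {d r : ℕ} (hr : r < 72) (hd : (d : ℤ) ≤ D r) (hd1 : 1 ≤ d) (t : K) :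
    Raise d (T6.xU K r t) := by
  intro row col hlt
  rw [xU_val Data.E6.valid hr, X, Finset.sum_range_succ', Matrix.add_apply, Matrix.sum_apply,
    Finset.sum_eq_zero, zero_add]
  · simp [A_zero]
  · intro k _
    simp only [Matrix.smul_apply, castM_apply, smul_eq_mul]
    by_cases h : T6.A r (k + 1) row col = 0
    · simp [h]
    · have := A_degree Data.E6.valid (f := D)
        (fun a _ b _ u hu => by
          rw [D_add (i := 1) (j := 1) (r := a) (s := b) (fun k hk => by rw [hu k hk]; ring)]; ring)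
        D_neg hr (k + 1) row col h
      have e1 : gr row = ((k + 1 : ℕ) : ℤ) * D r + gr col := this
      have h1 : (1 : ℤ) ≤ ((k + 1 : ℕ) : ℤ) := by omega
      have h2 : (1 : ℤ) ≤ d := by exact_mod_cast hd1
      rw [max_eq_left hd1] at hlt
      nlinarith

theorem Q_le_raise {d : ℕ} (hd : 1 ≤ d) : Q K d ≤ raiseSub d := by
  refine rootGen_le fun r hr ⟨_, h⟩ t => ⟨xU_raise hr h hd t, ?_⟩
  rw [xU_inv Data.E6.valid hr]
  exact xU_raise hr h hd (-t)

/-- The coordinate at a root. -/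
noncomputable def co (g : GL T6.I K) (r : ℕ) : K :=
  if h : r < 72 then (g : Matrix T6.I T6.I K) (Sum.inr ⟨r, h⟩) (Sum.inl ⟨kk r, (kk_facts r h).1⟩)
  else 0

theorem co_one (r : ℕ) : co (1 : GL T6.I K) r = 0 := by
  unfold co; split <;> simp

theorem co_mul {d r : ℕ} (hd : 1 ≤ d) (hr : D r ≤ d) {g g' : GL T6.I K} (hg : Raise d g)
    (hg' : Raise d g') : co (g * g') r = co g r + co g' r := by
  unfold co
  split
  · next h =>
    set i : T6.I := Sum.inr ⟨r, h⟩ with hi
    set j : T6.I := Sum.inl ⟨kk r, (kk_facts r h).1⟩ with hj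
    have hij : i ≠ j := by simp [hi, hj]
    have hgi : gr i = D r := rfl
    have hgj : gr j = 0 := rfl
    have hd' : (1 : ℤ) ≤ d := by exact_mod_cast hd
    rw [Units.val_mul, Matrix.mul_apply, Finset.sum_eq_add i j hij]
    · rw [hg i i (by omega), hg' j j (by omega), Matrix.one_apply_eq, Matrix.one_apply_eq, one_mul,
        mul_one, add_comm]
    · intro k _ ⟨hki, hkj⟩
      by_cases h1 : gr k < gr j + ((max d 1 : ℕ) : ℤ)
      · rw [hg' k j h1, Matrix.one_apply_ne hkj, mul_zero]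
      · rw [hg i k (by omega), Matrix.one_apply_ne (Ne.symm hki), zero_mul]
    · simp
    · simp
  · simp

theorem co_inv {d r : ℕ} (hd : 1 ≤ d) (hr : D r ≤ d) {g : GL T6.I K} (hg : g ∈ raiseSub d) :
    co g⁻¹ r = -co g r := by
  have h := co_mul hd hr hg.1 hg.2
  rw [mul_inv_cancel, co_one] at h
  linear_combination -h

variable [Finite K] (hK : Nat.card K = 4)
include hK

theorem co_xU {r s : ℕ} (hr : r < 72) (hs : s < 72) (t : K) :
    co (T6.xU K s t) r = if r = s then t else 0 := by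
  rw [co, dif_pos hr, xU_val Data.E6.valid hs, X, Matrix.sum_apply, Finset.sum_eq_single 1]
  · simp only [Matrix.smul_apply, castM_apply, smul_eq_mul, pow_one, A_apply]
    show t * (((if 0 = 0 then -T6.ca (kk r) s • T6.rootVec s else 0 : T6.I → ℤ) (Sum.inr ⟨r, hr⟩) : ℤ) : K) = _
    by_cases h : r = s
    · subst h
      rw [if_pos rfl, if_pos rfl]
      simp only [Pi.smul_apply, rootVec, Sum.elim_inr, if_true, smul_eq_mul, mul_one, Int.cast_neg,
        odd_cast hK (kk_facts r hr).2, neg_one hK, mul_one]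
    · rw [if_pos rfl, if_neg h]
      simp [rootVec, h]
  · intro k _ hk
    simp only [Matrix.smul_apply, castM_apply, smul_eq_mul, A_apply]
    match k with
    | 0 => simp [colA]
    | 1 => exact absurd rfl hk
    | k + 2 => simp [colA]
  · intro h
    exact absurd (Finset.mem_range.mpr (by norm_num)) h

/-- The effect of one root element on coordinates. -/
noncomputable def E (a : ℕ) (t : K) (f : ℕ → K) (r : ℕ) : K :=
  f r + if T6.pair a r = 1 then t * f (sh (T6.neg a) r) else 0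

omit [Finite K] hK in
theorem not_orb_of_pos {d r : ℕ} (hd : 1 ≤ d) (hr : r < 72) (h : (d : ℤ) ≤ D r) : ¬ Orb r := fun h2 => by
  rw [D_orb r hr h2] at h
  have : (1 : ℤ) ≤ d := by exact_mod_cast hd
  omega

omit [Finite K] hK in
theorem pos_of_D {d r : ℕ} (hd : 1 ≤ d) (hr : r < 72) (h : (d : ℤ) ≤ D r) : 36 ≤ r :=
  ((D_facts r hr (not_orb_of_pos hd hr h)).1).mpr (by
    have : (1 : ℤ) ≤ d := by exact_mod_cast hd
    omega)

/-- Conjugation by a root element of the orbit on a layer. -/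
theorem conj_root {d a : ℕ} (hd : 1 ≤ d) (ha : a ∈ [42, 37, 29, 34]) (t : K) {g : GL T6.I K}
    (hg : g ∈ Q K d) :
    T6.xU K a t * g * (T6.xU K a t)⁻¹ ∈ Q K d ∧
      ∀ r < 72, D r = d → co (T6.xU K a t * g * (T6.xU K a t)⁻¹) r = E a t (co g) r := by
  induction hg using Subgroup.closure_induction with
  | mem y hy =>
    obtain ⟨s, hs, ⟨-, hsd⟩, u, rfl⟩ := hy
    have hso := not_orb_of_pos hd hs hsd
    obtain ⟨-, -, -, hm, hp⟩ := move_facts a ha s hs hso
    rw [conj_gen hK ha hs hso]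
    by_cases h : T6.pair a s = -1
    · rw [if_pos h]
      obtain ⟨h1, h2, h3, h4, h5, h6, -⟩ := hm h
      have hd2 : (d : ℤ) ≤ D (sh a s) := by rw [h3]; exact hsd
      refine ⟨mul_mem (xU_mem_rootGen (P := Pd d) hs ⟨pos_of_D hd hs hsd, hsd⟩ _)
        (xU_mem_rootGen (P := Pd d) h1 ⟨pos_of_D hd h1 hd2, hd2⟩ _), fun r hr hrd => ?_⟩
      rw [co_mul hd hrd.le (xU_raise hs hsd hd _) (xU_raise h1 hd2 hd _), co_xU hK hr hs, co_xU hK hr h1]
      have hro := not_orb_of_pos hd hr hrd.ge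
      unfold E
      rw [co_xU hK hr hs]
      by_cases hr1 : r = sh a s
      · subst hr1
        rw [if_pos rfl, if_pos h5, h6, co_xU hK hs hs, if_pos rfl]
      · rw [if_neg hr1]
        congr 1
        split
        · next hr2 =>
          obtain ⟨-, -, -, -, hq⟩ := move_facts a ha r hr hro
          obtain ⟨q1, -, -, q4, -⟩ := hq hr2
          rw [co_xU hK q1 hs, if_neg, mul_zero]
          intro e
          rw [e] at q4
          exact hr1 q4.symm
        · rfl
    · rw [if_neg h]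
      refine ⟨xU_mem_rootGen (P := Pd d) hs ⟨pos_of_D hd hs hsd, hsd⟩ _, fun r hr hrd => ?_⟩
      unfold E
      rw [co_xU hK hr hs]
      by_cases hr2 : T6.pair a r = 1
      · obtain ⟨-, -, -, -, hq⟩ := move_facts a ha r hr (not_orb_of_pos hd hr hrd.ge)
        obtain ⟨q1, -, -, q4, q5⟩ := hq hr2
        rw [if_pos hr2, co_xU hK q1 hs, if_neg (fun e : sh (T6.neg a) r = s => h (by rw [← e]; exact q5)),
          mul_zero, add_zero]
      · rw [if_neg hr2, add_zero]
  | one =>
    refine ⟨by simp, fun r hr _ => ?_⟩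
    simp [E, co_one]
  | mul y z hy hz ihy ihz =>
    have e : T6.xU K a t * (y * z) * (T6.xU K a t)⁻¹ =
        (T6.xU K a t * y * (T6.xU K a t)⁻¹) * (T6.xU K a t * z * (T6.xU K a t)⁻¹) := by group
    refine ⟨by rw [e]; exact mul_mem ihy.1 ihz.1, fun r hr hrd => ?_⟩
    rw [e, co_mul hd hrd.le (Q_le_raise hd ihy.1).1 (Q_le_raise hd ihz.1).1, ihy.2 r hr hrd, ihz.2 r hr hrd]
    unfold E
    rw [co_mul hd hrd.le (Q_le_raise hd hy).1 (Q_le_raise hd hz).1]
    split
    · next hr2 =>
      obtain ⟨-, -, -, -, hq⟩ := move_facts a ha r hr (not_orb_of_pos hd hr hrd.ge)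
      obtain ⟨-, -, q3, -⟩ := hq hr2
      rw [co_mul hd (le_of_eq (q3.trans hrd)) (Q_le_raise hd hy).1 (Q_le_raise hd hz).1]
      ring
    · ring
  | inv y hy ihy =>
    have e : T6.xU K a t * y⁻¹ * (T6.xU K a t)⁻¹ = (T6.xU K a t * y * (T6.xU K a t)⁻¹)⁻¹ := by group
    refine ⟨by rw [e]; exact inv_mem ihy.1, fun r hr hrd => ?_⟩
    rw [e, co_inv hd hrd.le (Q_le_raise hd ihy.1), ihy.2 r hr hrd]
    unfold E
    rw [co_inv hd hrd.le (Q_le_raise hd hy)]
    split
    · next hr2 =>
      obtain ⟨-, -, -, -, hq⟩ := move_facts a ha r hr (not_orb_of_pos hd hr hrd.ge)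
      obtain ⟨-, -, q3, -⟩ := hq hr2
      rw [co_inv hd (le_of_eq (q3.trans hrd)) (Q_le_raise hd hy)]
      ring
    · ring

omit [Finite K] hK in
/-- The half of the element belonging to one orbit root. -/
noncomputable def xHalf (a : ℕ) (w : K) : GL T6.I K :=
  T6.xU K a 1 * T6.xU K (T6.neg a) 1 * T6.xU K a 1 * T6.xU K a w

/-- The partner in the string through a root. -/
def sg' (a r : ℕ) : ℕ :=
  if T6.pair a r = 1 then sh (T6.neg a) r else if T6.pair a r = -1 then sh a r else r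

/-- The effect of `xHalf` on coordinates. -/
noncomputable def B (a : ℕ) (w : K) (f : ℕ → K) (r : ℕ) : K :=
  if T6.pair a r = 0 then f r else f (sg' a r) + if T6.pair a r = -1 then w * f r else 0

omit [Finite K] hK in
theorem string_facts : ∀ a ∈ [42, 37], ∀ r < 72, ¬ Orb r → T6.neg a ∈ [42, 37, 29, 34] ∧
    T6.neg (T6.neg a) = a ∧ sg' a r < 72 ∧ ¬ Orb (sg' a r) ∧ D (sg' a r) = D r ∧
    sg' a (sg' a r) = r ∧ T6.pair a (sg' a r) = -T6.pair a r ∧
    T6.pair (T6.neg a) r = -T6.pair a r := by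
  decide +kernel

theorem conj_half {d a : ℕ} (hd : 1 ≤ d) (ha : a ∈ [42, 37]) (w : K) {g : GL T6.I K}
    (hg : g ∈ Q K d) :
    xHalf a w * g * (xHalf a w)⁻¹ ∈ Q K d ∧
      ∀ r < 72, D r = d → co (xHalf a w * g * (xHalf a w)⁻¹) r = B a w (co g) r := by
  have ha4 : a ∈ [42, 37, 29, 34] := by
    simp only [List.mem_cons, List.not_mem_nil, or_false] at ha ⊢; tauto
  have hna : T6.neg a ∈ [42, 37, 29, 34] := by
    simp only [List.mem_cons, List.not_mem_nil, or_false] at ha
    rcases ha with rfl | rfl <;> decide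
  obtain ⟨h1, e1⟩ := conj_root hK hd ha4 w hg
  obtain ⟨h2, e2⟩ := conj_root hK hd ha4 (1 : K) h1
  obtain ⟨h3, e3⟩ := conj_root hK hd hna (1 : K) h2
  obtain ⟨h4, e4⟩ := conj_root hK hd ha4 (1 : K) h3
  have e : xHalf a w * g * (xHalf a w)⁻¹ = T6.xU K a 1 * (T6.xU K (T6.neg a) 1 * (T6.xU K a 1 *
      (T6.xU K a w * g * (T6.xU K a w)⁻¹) * (T6.xU K a 1)⁻¹) * (T6.xU K (T6.neg a) 1)⁻¹) *
      (T6.xU K a 1)⁻¹ := by
    unfold xHalf; group
  refine ⟨by rw [e]; exact h4, fun r hr hrd => ?_⟩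
  have hro := not_orb_of_pos hd hr hrd.ge
  obtain ⟨-, hnn, hs, hso, hsD, hss, hsp, hnp⟩ := string_facts a ha r hr hro
  obtain ⟨-, -, -, -, -, -, -, hnp'⟩ := string_facts a ha _ hs hso
  have hsd : D (sg' a r) = d := hsD.trans hrd
  rw [e, e4 r hr hrd]
  unfold B
  rcases pair_or r hr hro a ha4 with hp | hp | hp
  · have hsr : sg' a r = sh (T6.neg a) r := by rw [sg', if_pos hp]
    rw [hp] at hsp hnp
    rw [hsp] at hnp'
    simp only [neg_neg] at hnp'
    have hback : sh a (sg' a r) = r := by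
      have := hss
      rw [sg', if_neg (by rw [hsp]; norm_num), if_pos hsp] at this
      exact this
    rw [if_neg (by rw [hp]; norm_num), if_neg (by rw [hp]; norm_num), add_zero]
    rw [E, if_pos hp, ← hsr, e3 r hr hrd, e3 _ hs hsd, E, if_neg (by rw [hnp]; norm_num), E,
      if_pos hnp', hnn, hback, e2 r hr hrd, e2 _ hs hsd, E, if_pos hp, ← hsr, E,
      if_neg (by rw [hsp]; norm_num), e1 r hr hrd, e1 _ hs hsd, E, if_pos hp, ← hsr, E,
      if_neg (by rw [hsp]; norm_num)]
    linear_combination (co g r + w * co g (sg' a r) + co g (sg' a r)) * two_zero hK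
  · have hsr : sg' a r = sh a r := by rw [sg', if_neg (by rw [hp]; norm_num), if_pos hp]
    rw [hp] at hsp hnp
    simp only [neg_neg] at hsp hnp
    have hback : sh (T6.neg a) (sg' a r) = r := by
      have := hss
      rw [sg', if_pos hsp] at this
      exact this
    rw [if_neg (by rw [hp]; norm_num), if_pos hp]
    rw [E, if_neg (by rw [hp]; norm_num), add_zero, e3 r hr hrd, E, if_pos hnp, hnn, ← hsr,
      e2 r hr hrd, e2 _ hs hsd, E, if_neg (by rw [hp]; norm_num), E, if_pos hsp, hback,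
      e1 r hr hrd, e1 _ hs hsd, E, if_neg (by rw [hp]; norm_num), E, if_pos hsp, hback]
    linear_combination (co g r) * two_zero hK
  · have hn0 : T6.pair (T6.neg a) r = 0 := by rw [hnp, hp, neg_zero]
    rw [if_pos hp]
    simp [E, hp, hn0, e3 r hr hrd, e2 r hr hrd, e1 r hr hrd]

omit [Finite K] hK in
theorem cross_facts : ∀ r < 72, ¬ Orb r →
    T6.pair 37 (sg' 42 r) = T6.pair 37 r ∧ T6.pair 42 (sg' 37 r) = T6.pair 42 r ∧
    sg' 42 (sg' 37 r) = sg' 37 (sg' 42 r) := by
  decide +kernel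

omit [Finite K] hK in
theorem orth_iff : ∀ r < 72, (Orth r ↔ T6.pair 42 r = 0 ∧ T6.pair 37 r = 0) := by decide +kernel

set_option synthInstance.maxSize 1000 in
omit [Finite K] hK in
theorem top_exists : ∀ r < 72, ¬ Orb r → T6.pair 42 r ≠ 0 → T6.pair 37 r ≠ 0 →
    ∃ r1 ∈ [r, sg' 42 r, sg' 37 r, sg' 37 (sg' 42 r)], T6.pair 42 r1 = 1 ∧ T6.pair 37 r1 = 1 ∧
      r ∈ [r1, sg' 42 r1, sg' 37 r1, sg' 37 (sg' 42 r1)] := by
  decide +kernel

/-- The element of order five. -/
noncomputable def xF : GL T6.I K := xHalf 42 (om hK) * xHalf 37 (om hK ^ 2)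

theorem conj_xF {d : ℕ} (hd : 1 ≤ d) {g : GL T6.I K} (hg : g ∈ Q K d) :
    xF hK * g * (xF hK)⁻¹ ∈ Q K d ∧ ∀ r < 72, D r = d →
      co (xF hK * g * (xF hK)⁻¹) r = B 42 (om hK) (B 37 (om hK ^ 2) (co g)) r := by
  obtain ⟨h1, e1⟩ := conj_half hK hd (a := 37) (by simp) (om hK ^ 2) hg
  obtain ⟨h2, e2⟩ := conj_half hK hd (a := 42) (by simp) (om hK) h1
  have e : xF hK * g * (xF hK)⁻¹ = xHalf 42 (om hK) * (xHalf 37 (om hK ^ 2) * g *
      (xHalf 37 (om hK ^ 2))⁻¹) * (xHalf 42 (om hK))⁻¹ := by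
    unfold xF; group
  refine ⟨by rw [e]; exact h2, fun r hr hrd => ?_⟩
  obtain ⟨-, -, hs, -, hsD, -⟩ := string_facts 42 (by simp) r hr (not_orb_of_pos hd hr hrd.ge)
  rw [e, e2 r hr hrd]
  simp only [B]
  rw [e1 r hr hrd, e1 _ hs (hsD.trans hrd)]
  simp only [B]

/-- A fixed vector is supported on the roots orthogonal to the orbit. -/
theorem fixed_vec {d : ℕ} (hd : 1 ≤ d) {f : ℕ → K}
    (hf : ∀ r < 72, D r = d → B 42 (om hK) (B 37 (om hK ^ 2) f) r = f r) {r : ℕ} (hr : r < 72)
    (hrd : D r = d) (hno : ¬ Orth r) : f r = 0 := by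
  have hro := not_orb_of_pos hd hr hrd.ge
  have hw := om_ne_zero hK
  have hw2 : om hK ^ 2 ≠ 0 := pow_ne_zero _ hw
  have hsum := om_eq hK
  obtain ⟨-, -, hs, hso, hsD, hss, hsp, -⟩ := string_facts 42 (by simp) r hr hro
  obtain ⟨-, -, ht, hto, htD, htt, htp, -⟩ := string_facts 37 (by simp) r hr hro
  obtain ⟨c1, c2, -⟩ := cross_facts r hr hro
  by_cases hp : T6.pair 42 r = 0
  · have hq : T6.pair 37 r ≠ 0 := fun hq => hno ((orth_iff r hr).mpr ⟨hp, hq⟩)
    have a1 := hf r hr hrd
    have a2 := hf _ ht (htD.trans hrd)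
    simp only [B, c2, hp, if_true, htp, htt] at a1 a2
    rcases pair_or r hr hro 37 (by simp) with h | h | h
    · simp only [h] at a1 a2
      norm_num at a1 a2
      have : f (sg' 37 r) = 0 := by
        refine (mul_eq_zero.mp (show om hK ^ 2 * f (sg' 37 r) = 0 from ?_)).resolve_left hw2
        linear_combination a2 + a1
      rw [← a1, this]
    · simp only [h] at a1 a2
      norm_num at a1 a2
      refine (mul_eq_zero.mp (show om hK ^ 2 * f r = 0 from ?_)).resolve_left hw2
      linear_combination a1 + a2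
    · exact absurd h hq
  by_cases hq : T6.pair 37 r = 0
  · have a1 := hf r hr hrd
    have a2 := hf _ hs (hsD.trans hrd)
    simp only [B, c1, hq, hss, hsp, if_true, hp, neg_eq_zero, if_false] at a1 a2
    rcases pair_or r hr hro 42 (by simp) with h | h | h
    · simp only [h] at a1 a2
      norm_num at a1 a2
      have : f (sg' 42 r) = 0 := by
        refine (mul_eq_zero.mp (show om hK * f (sg' 42 r) = 0 from ?_)).resolve_left hw
        linear_combination a2 + a1
      rw [← a1, this]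
    · simp only [h] at a1 a2
      norm_num at a1 a2
      refine (mul_eq_zero.mp (show om hK * f r = 0 from ?_)).resolve_left hw
      linear_combination a1 + a2
    · exact absurd h hp
  obtain ⟨r1, hr1, p1, q1, hmem⟩ := top_exists r hr hro hp hq
  have hfacts : r1 < 72 ∧ D r1 = d := by
    simp only [List.mem_cons, List.not_mem_nil, or_false] at hr1
    rcases hr1 with rfl | rfl | rfl | rfl
    · exact ⟨hr, hrd⟩
    · exact ⟨hs, hsD.trans hrd⟩
    · exact ⟨ht, htD.trans hrd⟩
    · obtain ⟨-, -, h', -, hD', -⟩ := string_facts 37 (by simp) _ hs hso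
      exact ⟨h', hD'.trans (hsD.trans hrd)⟩
  obtain ⟨h1, h1d⟩ := hfacts
  have h1o := not_orb_of_pos hd h1 h1d.ge
  obtain ⟨-, -, u, huo, huD, huu, hup, -⟩ := string_facts 42 (by simp) r1 h1 h1o
  obtain ⟨-, -, v, hvo, hvD, hvv, hvp, -⟩ := string_facts 37 (by simp) r1 h1 h1o
  obtain ⟨d1, d2, d3⟩ := cross_facts r1 h1 h1o
  obtain ⟨-, -, e, heo, heD, hee, hep, -⟩ := string_facts 37 (by simp) _ u huo
  obtain ⟨g1, g2, g3⟩ := cross_facts _ u huo
  obtain ⟨-, -, -, -, -, hev, -⟩ := string_facts 42 (by simp) _ v hvo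
  have eA := hf r1 h1 h1d
  have eB := hf _ u (huD.trans h1d)
  have eC := hf _ v (hvD.trans h1d)
  have eE := hf _ e (heD.trans (huD.trans h1d))
  have x2 : sg' 42 (sg' 37 (sg' 42 r1)) = sg' 37 r1 := by rw [g3, huu]
  simp only [B, p1, q1, d1, d2, d3, g2, hup, hvp, hep, huu, hvv, hee, x2] at eA eB eC eE
  norm_num at eA eB eC eE
  have za : f r1 = 0 := by
    linear_combination eB + eC + (om hK + om hK ^ 2) * eA + f r1 * hsum -
      (om hK + om hK ^ 2) * f (sg' 37 (sg' 42 r1)) * two_zero hK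
  have ze : f (sg' 37 (sg' 42 r1)) = 0 := eA.trans za
  rw [ze] at eB eC eE
  rw [za] at eE
  have zc : f (sg' 37 r1) = 0 := by
    linear_combination -(eE + om hK * eB) + f (sg' 37 r1) * hsum
  have zb : f (sg' 42 r1) = 0 := by
    linear_combination -eB + zc
  simp only [List.mem_cons, List.not_mem_nil, or_false] at hmem
  rcases hmem with rfl | rfl | rfl | rfl
  · exact za
  · exact zb
  · exact zc
  · rw [eA, za]

omit [Finite K] hK in
/-- The positive roots orthogonal to the orbit. -/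
abbrev OrthPos (r : ℕ) : Prop := 36 ≤ r ∧ Orth r

theorem orth_commute {s : ℕ} (hs : s < 72) (ho : Orth s) (u : K) :
    Commute (xF hK) (T6.xU K s u) := by
  obtain ⟨-, hso, p1, p2, p3, p4⟩ := orth_fix s hs ho
  have key : ∀ a ∈ [42, 37, 29, 34], ∀ t : K, Commute (T6.xU K a t) (T6.xU K s u) := by
    intro a ha t
    have e := conj_gen hK ha hs hso t u
    rw [if_neg] at e
    · exact mul_inv_eq_iff_eq_mul.mp e
    · simp only [List.mem_cons, List.not_mem_nil, or_false] at ha
      rcases ha with rfl | rfl | rfl | rfl <;> omega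
  unfold xF xHalf
  rw [show T6.neg 42 = 29 from rfl, show T6.neg 37 = 34 from rfl]
  exact (((((key 42 (by simp) _).mul_left (key 29 (by simp) _)).mul_left (key 42 (by simp) _)).mul_left
    (key 42 (by simp) _))).mul_left ((((key 37 (by simp) _).mul_left (key 34 (by simp) _)).mul_left
      (key 37 (by simp) _)).mul_left (key 37 (by simp) _))

omit hK in
theorem co_gprod {d : ℕ} (hd : 1 ≤ d) (hK : Nat.card K = 4) {r : ℕ} (hr : r < 72) (hrd : D r ≤ d)
    (f : ℕ → K) : ∀ L : List ℕ, L.Nodup → (∀ s ∈ L, s < 72 ∧ Pd d s) →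
      co (T6.gprod (L.map fun s => (s, f s))) r = if r ∈ L then f r else 0 := by
  intro L
  induction L with
  | nil => intro _ _; simp [gprod, co_one]
  | cons s L ih =>
    intro hnd hL
    obtain ⟨hsL, hnd'⟩ := List.nodup_cons.mp hnd
    obtain ⟨hs, hsP⟩ := hL s List.mem_cons_self
    have hL' : ∀ x ∈ L, x < 72 ∧ Pd d x := fun x hx => hL x (List.mem_cons_of_mem _ hx)
    have hQ : T6.gprod (L.map fun s => (s, f s)) ∈ Q K d := gprod_mem fun p hp => by
      obtain ⟨x, hx, rfl⟩ := List.mem_map.mp hp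
      exact hL' x hx
    rw [List.map_cons, gprod_cons, co_mul hd hrd (xU_raise hs hsP.2 hd _) (Q_le_raise hd hQ).1,
      co_xU hK hr hs, ih hnd' hL']
    by_cases h : r = s
    · subst h; simp [hsL]
    · simp [h]

/-- The centraliser of the element in the radical lies in the orthogonal root groups. -/
theorem cent_Q : ∀ k d : ℕ, 1 ≤ d → k + d = 8 → ∀ g ∈ Q K d, Commute (xF hK) g →
    g ∈ T6.rootGen K OrthPos := by
  have hT := Data.E6.valid
  have hC := Data.E6.chkComm
  intro k
  induction k with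
  | zero =>
    intro d _ hd g hg _
    have : g ∈ (⊥ : Subgroup (GL T6.I K)) := rootGen_le (fun r hr ⟨_, h⟩ t => by
      have := D_le r hr
      omega) hg
    rw [Subgroup.mem_bot.mp this]
    exact one_mem _
  | succ k ih =>
    intro d hd hkd g hg hcomm
    classical
    obtain ⟨f, hgf⟩ := exists_gprod hT hC (closed_Pd d) 36 36 rfl le_rfl g
      (rootGen_mono (fun r _ h => show Pd d r ∧ 36 ≤ r from ⟨h, h.1⟩) hg)
    set L := (List.range' 36 36).filter fun r => decide (Pd d r) with hL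
    have hnd : L.Nodup := (List.Pairwise.filter _ List.pairwise_lt_range').imp fun h => ne_of_lt h
    have hmem : ∀ s, s ∈ L ↔ (s < 72 ∧ Pd d s) := fun s => by
      simp only [hL, List.mem_filter, List.mem_range'_1, decide_eq_true_eq]
      omega
    have hzero : ∀ r < 72, D r = d → ¬ Orth r → f r = 0 := by
      intro r hr hrd hno
      have hco : co g r = f r := by
        rw [hgf, co_gprod hd hK hr hrd.le f L hnd fun s hs => (hmem s).mp hs,
          if_pos ((hmem r).mpr ⟨hr, pos_of_D hd hr hrd.ge, hrd.ge⟩)]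
      rw [← hco]
      refine fixed_vec hK hd (fun s hs hsd => ?_) hr hrd hno
      rw [← (conj_xF hK hd hg).2 s hs hsd, show xF hK * g * (xF hK)⁻¹ = g from by
        rw [hcomm.eq, mul_inv_cancel_right]]
    set M := T6.rootGen K (fun r => OrthPos r ∧ (d : ℤ) ≤ D r) with hM
    have hMQ : M ≤ Q K d := rootGen_mono fun r _ h => ⟨h.1.1, h.2⟩
    have hnorm : M ≤ Subgroup.normalizer (Q K (d + 1) : Set (GL T6.I K)) := by
      refine rootGen_le fun r hr ⟨⟨hr1, _⟩, hr2⟩ t => xU_mem_normalizer hT hC hr (fun s hs ⟨hs1, hs2⟩ hne => ⟨?_, fun c hc => ?_⟩) t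
      · intro e
        have : T6.neg r < 36 := by show 2 * 36 - 1 - r < 36; omega
        subst e
        exact absurd hs1 (not_le.mpr this)
      · obtain ⟨hi, hj, hco⟩ := commT_co hT hr hs c hc
        have hgt := (commT_gt hT hr hs hr1 hs1 c hc).1
        refine ⟨by omega, ?_⟩
        rw [D_add hco]
        have h1 : (1 : ℤ) ≤ c.2.2.1 := by exact_mod_cast hi
        have h2 : (1 : ℤ) ≤ c.2.2.2 := by exact_mod_cast hj
        have h0 : (0 : ℤ) ≤ d := Int.natCast_nonneg d
        push_cast at hs2 ⊢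
        nlinarith
    have hsup : g ∈ M ⊔ Q K (d + 1) := by
      rw [hgf]
      refine list_prod_mem fun y hy => ?_
      simp only [List.map_map, List.mem_map, Function.comp_apply] at hy
      obtain ⟨s, hs, rfl⟩ := hy
      obtain ⟨hs72, hs36, hsd⟩ := (hmem s).mp hs
      by_cases hsD : D s = d
      · by_cases ho : Orth s
        · exact Subgroup.mem_sup_left (xU_mem_rootGen (P := fun r => OrthPos r ∧ (d : ℤ) ≤ D r) hs72
            ⟨⟨hs36, ho⟩, hsd⟩ _)
        · rw [hzero s hs72 hsD ho, xU_zero hT hs72]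
          exact one_mem _
      · exact Subgroup.mem_sup_right (xU_mem_rootGen (P := Pd (d + 1)) hs72 ⟨hs36, by push_cast; omega⟩ _)
    rw [← SetLike.mem_coe, Subgroup.coe_mul_of_left_le_normalizer_right _ _ hnorm] at hsup
    obtain ⟨h, hh, g', hg', rfl⟩ := hsup
    have hhc : Commute (xF hK) h := by
      have : M ≤ Subgroup.centralizer {xF hK} := rootGen_le fun r hr hP t =>
        Subgroup.mem_centralizer_singleton_iff.mpr (orth_commute hK hr hP.1.2 t).eq.symm
      exact (Subgroup.mem_centralizer_singleton_iff.mp (this hh)).symm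
    refine mul_mem (rootGen_mono (fun r _ hP => hP.1) hh) (ih (d + 1) (by omega) (by omega) g' hg' ?_)
    have := hhc.inv_right.mul_right hcomm
    rwa [← mul_assoc, inv_mul_cancel, one_mul] at this

end CfsgLib.Chevalley.TwistE6Five
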