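import Cfsg.Agent.Lib.Chevalley.TwistE6Five.Layers

/-!
The short root group `SL₂(4)` inside the fixed points, and the element of order five.
-/

set_option autoImplicit false
set_option maxRecDepth 20000
set_option Elab.async false

namespace CfsgLib.Chevalley.TwistE6Five

open Tbl Matrix

section SL

variable {K : Type*} [Field K]

/-- Upper unitriangular. -/
def ux (t : K) : SpecialLinearGroup (Fin 2) K := SL2.ux t

/-- Lower unitriangular. -/
def lx (t : K) : SpecialLinearGroup (Fin 2) K := ⟨!![1, 0; t, 1], by simp [Matrix.det_fin_two]⟩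

/-- An element of order five, and its relatives. -/
def Nm (c w : K) : SpecialLinearGroup (Fin 2) K := ux c * lx c⁻¹ * ux c * ux (c * w)

variable [Finite K] (hK : Nat.card K = 4)
include hK

theorem val_Nm {c : K} (hc : c ≠ 0) (w : K) : (Nm c w).1 = !![0, c; c⁻¹, w] := by
  show !![1, c; 0, 1] * !![1, 0; c⁻¹, 1] * !![1, c; 0, 1] * !![1, c * w; 0, 1] = _
  have h2 : c * c⁻¹ = 1 := mul_inv_cancel₀ hc
  simp only [Matrix.cons_mul, Matrix.empty_mul, Equiv.symm_apply_apply, Matrix.vecMul, Matrix.of_apply]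
  ext i j
  fin_cases i <;> fin_cases j <;> simp [h2, add_self hK]
  all_goals first
    | linear_combination two_zero hK
    | linear_combination (1 + w) * h2 + two_zero hK

theorem wn_eq : (SL2.wn : SpecialLinearGroup (Fin 2) K) = ux 1 * lx 1 * ux 1 := by
  apply Subtype.ext
  show !![(0 : K), 1; -1, 0] = !![1, 1; 0, 1] * !![1, 0; 1, 1] * !![1, 1; 0, 1]
  simp [Matrix.mul_fin_two, add_self hK, neg_one hK]

theorem dh_eq (c : Kˣ) : (SL2.dh c : SpecialLinearGroup (Fin 2) K) =
    ux (c : K) * lx (c : K)⁻¹ * ux (c : K) * (ux 1 * lx 1 * ux 1) := by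
  apply Subtype.ext
  show !![(c : K), 0; 0, (c : K)⁻¹] = !![1, (c : K); 0, 1] * !![1, 0; (c : K)⁻¹, 1] * !![1, (c : K); 0, 1] *
    (!![(1 : K), 1; 0, 1] * !![1, 0; 1, 1] * !![1, 1; 0, 1])
  simp [Matrix.mul_fin_two, add_self hK]

/-- Induction on `SL₂` by elementary matrices. -/
theorem sl_ind {P : SpecialLinearGroup (Fin 2) K → Prop} (h1 : P 1) (hu : ∀ t, P (ux t))
    (hl : ∀ t, P (lx t)) (hm : ∀ a b, P a → P b → P (a * b)) (A : SpecialLinearGroup (Fin 2) K) : P A := by
  have hA := SL2.exists_normal_form A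
  induction hA using Submonoid.closure_induction with
  | mem y hy =>
    rcases hy with (⟨t, rfl⟩ | ⟨c, rfl⟩) | hy
    · exact hu t
    · rw [dh_eq hK]; exact hm _ _ (hm _ _ (hm _ _ (hu _) (hl _)) (hu _)) (hm _ _ (hm _ _ (hu _) (hl _)) (hu _))
    · rw [Set.mem_singleton_iff.mp hy, wn_eq hK]; exact hm _ _ (hm _ _ (hu _) (hl _)) (hu _)
  | one => exact h1
  | mul a b _ _ ha hb => exact hm _ _ ha hb

/-- The central elements are trivial. -/
theorem sl_center {A : SpecialLinearGroup (Fin 2) K} (h : ∀ B, A * B = B * A) : A = 1 := by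
  have h1 : A.1 * !![(1 : K), 1; 0, 1] = !![1, 1; 0, 1] * A.1 := congrArg Subtype.val (h (ux 1))
  have h2 : A.1 * !![(1 : K), 0; 1, 1] = !![1, 0; 1, 1] * A.1 := congrArg Subtype.val (h (lx 1))
  have hd : A.1 0 0 * A.1 1 1 - A.1 0 1 * A.1 1 0 = 1 := by
    have := A.2; rwa [Matrix.det_fin_two] at this
  have a1 := congrFun (congrFun h1 0) 0
  have a2 := congrFun (congrFun h1 0) 1
  have a3 := congrFun (congrFun h2 0) 0
  simp [Matrix.mul_apply, Fin.sum_univ_two] at a1 a2 a3
  have e00 : A.1 0 0 = 1 := by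
    have hsq : (A.1 0 0 - 1) ^ 2 = 0 := by
      rw [a1] at hd
      linear_combination hd + (A.1 0 0) * a2 + (1 - A.1 0 0) * two_zero hK
    exact sub_eq_zero.mp ((pow_eq_zero_iff (by norm_num)).mp hsq)
  apply Subtype.ext
  ext i j
  fin_cases i <;> fin_cases j
  · simpa using e00
  · simpa using a3
  · simpa using a1
  · show A.1 1 1 = 1
    linear_combination e00 - a2

theorem nm_pows :
    ((Nm (1 : K) (om hK)) ^ 2).1 = !![1, om hK; om hK, om hK] ∧
    ((Nm (1 : K) (om hK)) ^ 3).1 = !![om hK, om hK; om hK, 1] ∧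
    ((Nm (1 : K) (om hK)) ^ 4).1 = !![om hK, 1; 1, 0] ∧
    ((Nm (1 : K) (om hK)) ^ 5).1 = 1 := by
  have hw : om hK * om hK = 1 + om hK := by
    linear_combination om_eq hK - (1 + om hK) * two_zero hK
  have h1 : (Nm (1 : K) (om hK)).1 = !![0, 1; 1, om hK] := by
    rw [val_Nm hK one_ne_zero, inv_one]
  have h2 : ((Nm (1 : K) (om hK)) ^ 2).1 = !![1, om hK; om hK, om hK] := by
    rw [pow_two]
    show (Nm (1 : K) (om hK)).1 * (Nm (1 : K) (om hK)).1 = _
    rw [h1]
    simp [Matrix.mul_fin_two, hw]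
    rw [← add_assoc, add_self hK, zero_add]
  have h3 : ((Nm (1 : K) (om hK)) ^ 3).1 = !![om hK, om hK; om hK, 1] := by
    rw [pow_succ]
    show ((Nm (1 : K) (om hK)) ^ 2).1 * (Nm (1 : K) (om hK)).1 = _
    rw [h2, h1]
    simp [Matrix.mul_fin_two, hw]
    constructor
    · linear_combination two_zero hK
    · linear_combination (om hK) * two_zero hK
  have h4 : ((Nm (1 : K) (om hK)) ^ 4).1 = !![om hK, 1; 1, 0] := by
    rw [pow_succ]
    show ((Nm (1 : K) (om hK)) ^ 3).1 * (Nm (1 : K) (om hK)).1 = _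
    rw [h3, h1]
    simp [Matrix.mul_fin_two, hw]
    refine ⟨?_, ?_⟩
    · linear_combination (om hK) * two_zero hK
    · linear_combination (om hK) * two_zero hK
  refine ⟨h2, h3, h4, ?_⟩
  rw [pow_succ]
  show ((Nm (1 : K) (om hK)) ^ 4).1 * (Nm (1 : K) (om hK)).1 = _
  rw [h4, h1]
  simp [Matrix.mul_fin_two, Matrix.one_fin_two, add_self hK]

/-- The centraliser of the element of order five in `SL₂(4)`. -/
theorem nm_cent {A : SpecialLinearGroup (Fin 2) K}
    (h : A * Nm 1 (om hK) = Nm 1 (om hK) * A) : ∃ k : ℕ, A = Nm 1 (om hK) ^ k := by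
  obtain ⟨p2, p3, p4, -⟩ := nm_pows hK
  have h1 : (Nm (1 : K) (om hK)).1 = !![0, 1; 1, om hK] := by rw [val_Nm hK one_ne_zero, inv_one]
  have he : A.1 * !![0, 1; 1, om hK] = !![0, 1; 1, om hK] * A.1 := by
    rw [← h1]; exact congrArg Subtype.val h
  have a1 := congrFun (congrFun he 0) 0
  have a2 := congrFun (congrFun he 0) 1
  simp [Matrix.mul_apply, Fin.sum_univ_two] at a1 a2
  set p := A.1 0 0 with hp
  set q := A.1 0 1 with hq
  have hd : p * A.1 1 1 - q * A.1 1 0 = 1 := by
    have := A.2; rwa [Matrix.det_fin_two] at this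
  have hdet : p ^ 2 + om hK * p * q + q ^ 2 = 1 := by
    rw [← a2, ← a1] at hd
    linear_combination hd + q ^ 2 * two_zero hK
  have key : ∀ k, (Nm (1 : K) (om hK) ^ k).1 = !![p, q; q, p + om hK * q] → ∃ k : ℕ, A = Nm 1 (om hK) ^ k := by
    intro k hk
    refine ⟨k, Subtype.ext ?_⟩
    rw [hk]
    ext i j
    fin_cases i <;> fin_cases j
    · rfl
    · rfl
    · exact a1.symm
    · show A.1 1 1 = p + om hK * q
      linear_combination -a2
  have hw : om hK * om hK = 1 + om hK := by linear_combination om_eq hK - (1 + om hK) * two_zero hK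
  have w0 := om_ne_zero hK
  have w1 : om hK ≠ 1 := fun e => by
    rw [e, mul_one] at hw
    exact one_ne_zero (by linear_combination -hw : (1 : K) = 0)
  rcases four_cases hK q with hq0 | hq0 | hq0 | hq0 <;> rw [hq0] at hdet key
  · have hp1 : p = 1 := by
      have : (p - 1) ^ 2 = 0 := by linear_combination hdet + (1 - p) * two_zero hK
      exact sub_eq_zero.mp ((pow_eq_zero_iff (by norm_num)).mp this)
    rw [hp1] at key
    exact key 0 (by simp [Matrix.one_fin_two])
  · have : p * (p + om hK) = 0 := by linear_combination hdet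
    rcases mul_eq_zero.mp this with hp0 | hp0
    · rw [hp0] at key
      exact key 1 (by rw [pow_one, h1]; simp)
    · have hp1 : p = om hK := by linear_combination hp0 - om hK * two_zero hK
      rw [hp1] at key
      exact key 4 (by rw [p4]; simp [add_self hK])
  · have : (p - 1) * (p - om hK) = 0 := by
      linear_combination hdet + (-p - 1) * hw - p * (1 + om hK) * two_zero hK
    rcases mul_eq_zero.mp this with hp0 | hp0 <;> rw [sub_eq_zero.mp hp0] at key
    · refine key 2 ?_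
      rw [p2, hw, ← add_assoc, add_self hK, zero_add]
    · refine key 3 ?_
      rw [p3, hw, add_comm 1, ← add_assoc, add_self hK, zero_add]
  · exfalso
    rcases four_cases hK p with hp0 | hp0 | hp0 | hp0 <;> rw [hp0] at hdet
    · exact w1 (by linear_combination hdet - pow_four hK (om hK))
    · exact w1 (by linear_combination hdet - pow_three hK w0 - pow_four hK (om hK) - two_zero hK)
    · exact w0 (by linear_combination -hdet + om_eq hK + (om hK ^ 4 - 1) * two_zero hK)
    · exact w0 (by linear_combination -hdet + om hK ^ 2 * pow_three hK w0 + om_eq hK +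
        (om hK ^ 4 - 1) * two_zero hK)

/-- Conjugates of the relatives have the other trace. -/
theorem nm_trace {A : SpecialLinearGroup (Fin 2) K} {d : K} (hd : d ≠ 0)
    (h : A * Nm d (om hK ^ 2) * A⁻¹ = Nm 1 (om hK)) : False := by
  rw [mul_inv_eq_iff_eq_mul] at h
  have e : Nm d (om hK ^ 2) = A⁻¹ * (Nm 1 (om hK) * A) := by rw [← h, inv_mul_cancel_left]
  have e2 : (Nm d (om hK ^ 2)).1.trace = ((A⁻¹).1 * ((Nm 1 (om hK)).1 * A.1)).trace :=
    congrArg (fun B : SpecialLinearGroup (Fin 2) K => B.1.trace) e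
  have hA : A.1 * (A⁻¹).1 = 1 := congrArg Subtype.val (mul_inv_cancel A)
  rw [Matrix.trace_mul_comm, mul_assoc, hA, mul_one, val_Nm hK hd, val_Nm hK one_ne_zero] at e2
  simp [Matrix.trace_fin_two] at e2
  exact om_ne_sq hK e2.symm

end SL

section Levi

variable {K : Type*} [Field K] [Finite K] (hK : Nat.card K = 4)

/-- The homomorphism of a root. -/
noncomputable def phi (K : Type*) [Field K] {a : ℕ} (ha : a < T6.n) : SpecialLinearGroup (Fin 2) K →* GL T6.I K :=
  (sl2Data Data.E6.valid ha).hom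

omit [Finite K] in
theorem phi_ux {a : ℕ} (ha : a < T6.n) (t : K) : phi K ha (ux t) = T6.xU K a t :=
  (sl2Data Data.E6.valid ha).hom_upper _ t rfl

omit [Finite K] in
theorem phi_lx {a : ℕ} (ha : a < T6.n) (t : K) : phi K ha (lx t) = T6.xU K (T6.neg a) t :=
  (sl2Data Data.E6.valid ha).hom_lower _ t rfl

include hK

theorem phi_mem {a : ℕ} (ha : a < T6.n) {P : ℕ → Prop} (h1 : P a) (h2 : P (T6.neg a))
    (A : SpecialLinearGroup (Fin 2) K) : phi K ha A ∈ T6.rootGen K P := by
  induction A using sl_ind hK with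
  | h1 => rw [map_one]; exact one_mem _
  | hu t => rw [phi_ux]; exact xU_mem_rootGen ha h1 t
  | hl t => rw [phi_lx]; exact xU_mem_rootGen (neg_lt' ha) h2 t
  | hm A B hA hB => rw [map_mul]; exact mul_mem hA hB

omit [Finite K] hK in
theorem orb_cross : ∀ a ∈ [42, 29], ∀ b ∈ [37, 34], a < 72 ∧ b < 72 ∧ b ≠ T6.neg a ∧ T6.commT a b = [] := by
  decide +kernel

theorem phi_commute (A B : SpecialLinearGroup (Fin 2) K) :
    Commute (phi K (show 42 < T6.n by decide) A) (phi K (show 37 < T6.n by decide) B) := by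
  induction A using sl_ind hK with
  | h1 => rw [map_one]; exact Commute.one_left _
  | hm A A' hA hA' => rw [map_mul]; exact hA.mul_left hA'
  | hu t =>
    rw [phi_ux]
    induction B using sl_ind hK with
    | h1 => rw [map_one]; exact Commute.one_right _
    | hm B B' hB hB' => rw [map_mul]; exact hB.mul_right hB'
    | hu u =>
      rw [phi_ux]
      obtain ⟨h1, h2, h3, h4⟩ := orb_cross 42 (by simp) 37 (by simp)
      exact commute_xU Data.E6.valid Data.E6.chkComm h1 h2 h3 (by rw [h4]; simp) _ _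
    | hl u =>
      rw [phi_lx]
      obtain ⟨h1, h2, h3, h4⟩ := orb_cross 42 (by simp) 34 (by simp)
      exact commute_xU Data.E6.valid Data.E6.chkComm h1 h2 h3 (by rw [h4]; simp) _ _
  | hl t =>
    rw [phi_lx]
    induction B using sl_ind hK with
    | h1 => rw [map_one]; exact Commute.one_right _
    | hm B B' hB hB' => rw [map_mul]; exact hB.mul_right hB'
    | hu u =>
      rw [phi_ux]
      obtain ⟨h1, h2, h3, h4⟩ := orb_cross 29 (by simp) 37 (by simp)
      exact commute_xU Data.E6.valid Data.E6.chkComm h1 h2 h3 (by rw [h4]; simp) _ _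
    | hl u =>
      rw [phi_lx]
      obtain ⟨h1, h2, h3, h4⟩ := orb_cross 29 (by simp) 34 (by simp)
      exact commute_xU Data.E6.valid Data.E6.chkComm h1 h2 h3 (by rw [h4]; simp) _ _

/-- The homomorphism of the orbit. -/
noncomputable def Phi : SpecialLinearGroup (Fin 2) K × SpecialLinearGroup (Fin 2) K →* GL T6.I K :=
  (phi K (show 42 < T6.n by decide)).noncommCoprod (phi K (show 37 < T6.n by decide)) (phi_commute hK)

theorem Phi_apply (A B : SpecialLinearGroup (Fin 2) K) :
    Phi hK (A, B) = phi K (show 42 < T6.n by decide) A * phi K (show 37 < T6.n by decide) B := rfl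

theorem phi_inj (i : Fin T6.rank) :
    Function.Injective (phi K (simple_lt Data.E6.valid i.2)) := by
  have hT := Data.E6.valid
  have hC := Data.E6.chkComm
  have ha := simple_lt hT i.2
  rw [← MonoidHom.ker_eq_bot_iff, eq_bot_iff]
  intro A hA
  rw [MonoidHom.mem_ker] at hA
  rw [Subgroup.mem_bot]
  have hp : T6.half ≤ T6.simple i := isPos_iff.mp (simple_pos hT i.2)
  change (sl2Data hT ha).map A = 1 at hA
  by_cases hc : A.1 1 0 = 0
  · have hd : A.1 0 0 * A.1 1 1 = 1 := by
      have := A.2; rw [Matrix.det_fin_two, hc] at this; simpa using this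
    have ha0 : A.1 0 0 ≠ 0 := fun h => by simp [h] at hd
    rw [(sl2Data hT ha).map_zero hc (Units.mk0 _ ha0) rfl, (sl2Data hT ha).h_x] at hA
    have hh : ((sl2Data hT ha).h (Units.mk0 _ ha0) : GL T6.I K) ∈ T6.datum.diagonalSubgroup K := by
      rw [diagonalSubgroup_eq hT]; exact Subgroup.subset_closure ⟨_, ha, _, rfl⟩
    obtain ⟨e1, e2⟩ := borel_unique hT hC (xU_mem_rootGen (P := fun r => T6.half ≤ r) ha hp _) (one_mem _) hh (one_mem _)
      (hA.trans (mul_one 1).symm)
    have hA00 : A.1 0 0 = 1 := by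
      have e3 := dU_hCh_xU hT ha (Units.mk0 _ ha0) ha (1 : K)
      change T6.dU (T6.hCh (T6.simple i) (Units.mk0 _ ha0)) * _ = _ * T6.dU (T6.hCh (T6.simple i) (Units.mk0 _ ha0)) at e3
      rw [show (T6.dU (T6.hCh (T6.simple i) (Units.mk0 _ ha0)) : GL T6.I K) = 1 from e2, one_mul, mul_one] at e3
      have e4 := xU_inj hT ha e3
      rw [pair_self hT ha, Units.val_zpow_eq_zpow_val, Units.val_mk0, mul_one, zpow_two] at e4
      have : (A.1 0 0 - 1) ^ 2 = 0 := by linear_combination -e4 + (1 - A.1 0 0) * two_zero hK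
      exact sub_eq_zero.mp ((pow_eq_zero_iff (by norm_num)).mp this)
    have hA01 : A.1 0 1 = 0 := by
      have e5 : T6.xU K (T6.simple i) ((((Units.mk0 _ ha0 : Kˣ) : K) ^ 2) * (A.1 0 1 / A.1 0 0)) = T6.xU K (T6.simple i) 0 :=
        e1.trans (xU_zero hT ha).symm
      have := xU_inj hT ha e5
      simpa [hA00] using this
    rw [hA00, one_mul] at hd
    apply Subtype.ext
    ext p r
    fin_cases p <;> fin_cases r <;> simp [hA00, hA01, hc, hd]
  · exfalso
    rw [(sl2Data hT ha).map_ne (g := A) (Units.mk0 _ hc) rfl] at hA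
    have hB : ∀ t, (sl2Data (F := K) hT ha).x t ∈ T6.datum.borelSubgroup K := fun t => pos_le_borel hT ha hp t
    have hh : ∀ c, (sl2Data (F := K) hT ha).h c ∈ T6.datum.borelSubgroup K := fun c => by
      refine Subgroup.mem_sup_right ?_
      rw [diagonalSubgroup_eq hT]; exact Subgroup.subset_closure ⟨_, ha, _, rfl⟩
    have hn : T6.nU K (T6.simple i) 1 ∈ T6.datum.borelSubgroup K := by
      have key : ∀ a b n c : GL T6.I K, a ∈ T6.datum.borelSubgroup K → b ∈ T6.datum.borelSubgroup K →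
          c ∈ T6.datum.borelSubgroup K → a * b * n * c = 1 → n ∈ T6.datum.borelSubgroup K := by
        intro a b n c h1 h2 h3 e
        rw [show n = (a * b)⁻¹ * (a * b * n * c) * c⁻¹ by group, e, mul_one]
        exact mul_mem (inv_mem (mul_mem h1 h2)) (inv_mem h3)
      exact key _ _ _ _ (hB _) (hh _) (hB _) hA
    have hd : T6.nU K (T6.simple i) 1 ∈ T6.datum.diagonalSubgroup K :=
      borel_inf_monomial (T := T6) (F := K) hT ▸ Subgroup.mem_inf.mpr ⟨hn, nU_simple_mem_N hT i⟩
    have e := (mono_nU_simple hT i).unique (mono_diag hT hd)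
    have e2 := refP_simpF hT i
    rw [e] at e2
    exact absurd (congrArg Fin.val e2).symm (neg_ne ha)

theorem Phi_inj : Function.Injective (Phi hK) := by
  rw [← MonoidHom.ker_eq_bot_iff, eq_bot_iff]
  rintro ⟨A, B⟩ h
  rw [MonoidHom.mem_ker, Phi_apply] at h
  have i42 : Function.Injective (phi K (show 42 < T6.n by decide)) := phi_inj hK (⟨2, by decide⟩ : Fin T6.rank)
  have i37 : Function.Injective (phi K (show 37 < T6.n by decide)) := phi_inj hK (⟨4, by decide⟩ : Fin T6.rank)
  have hA : A = 1 := sl_center hK fun C => i42 (by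
    rw [map_mul, map_mul, eq_inv_of_mul_eq_one_left h]
    exact (phi_commute hK C B).inv_right.eq.symm)
  subst hA
  rw [map_one, one_mul, ← map_one (phi K (show 37 < T6.n by decide))] at h
  rw [i37 h]
  exact Subgroup.mem_bot.mpr rfl

/-- The Frobenius map. -/
noncomputable def Fr : SpecialLinearGroup (Fin 2) K →* SpecialLinearGroup (Fin 2) K :=
  SpecialLinearGroup.map (Twist.E6.fq Nat.prime_two.isPrimePow (hK2 hK)).toRingHom

theorem Fr_val (A : SpecialLinearGroup (Fin 2) K) (i j : Fin 2) :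
    (Fr hK A).1 i j = Twist.E6.fq Nat.prime_two.isPrimePow (hK2 hK) (A.1 i j) := rfl

theorem Fr_ux (t : K) : Fr hK (ux t) = ux (t ^ 2) := by
  apply Subtype.ext
  ext i j
  have := Twist.E6.fq_apply Nat.prime_two.isPrimePow (hK2 hK) t
  fin_cases i <;> fin_cases j <;> rw [Fr_val] <;> simp [ux, SL2.ux, this]

theorem Fr_lx (t : K) : Fr hK (lx t) = lx (t ^ 2) := by
  apply Subtype.ext
  ext i j
  have := Twist.E6.fq_apply Nat.prime_two.isPrimePow (hK2 hK) t
  fin_cases i <;> fin_cases j <;> rw [Fr_val] <;> simp [lx, this]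

theorem Fr_Fr (A : SpecialLinearGroup (Fin 2) K) : Fr hK (Fr hK A) = A := by
  have e : ∀ t : K, (t ^ 2) ^ 2 = t := fun t => by rw [← pow_mul]; exact pow_four hK t
  induction A using sl_ind hK with
  | h1 => rw [map_one, map_one]
  | hu t => rw [Fr_ux, Fr_ux, e]
  | hl t => rw [Fr_lx, Fr_lx, e]
  | hm A B hA hB => rw [map_mul, map_mul, hA, hB]

omit [Finite K] hK in
theorem graph_orb : Data.E6.graph.ρ 42 = 37 ∧ Data.E6.graph.ρ 37 = 42 ∧ Data.E6.graph.ρ 29 = 34 ∧
    Data.E6.graph.ρ 34 = 29 := by decide +kernel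

theorem Phi_mem (p : SpecialLinearGroup (Fin 2) K × SpecialLinearGroup (Fin 2) K) :
    Phi hK p ∈ T6.rootGen K Orb := by
  rw [show p = (p.1, p.2) from rfl, Phi_apply]
  exact mul_mem (phi_mem hK _ (Or.inl rfl) (Or.inr (Or.inr (Or.inl rfl))) _)
    (phi_mem hK _ (Or.inr (Or.inl rfl)) (Or.inr (Or.inr (Or.inr rfl))) _)

theorem sg_Phi (A B : SpecialLinearGroup (Fin 2) K) :
    (tw hK).sg (Phi hK (A, B)) = Phi hK (Fr hK B, Fr hK A) := by
  have hG : ∀ p, Phi hK p ∈ T6.datum.group K := fun p => (tw hK).rootGen_le_group Orb (Phi_mem hK p)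
  have hB : ∀ B, (tw hK).sg (Phi hK (1, B)) = Phi hK (Fr hK B, 1) := by
    intro B
    induction B using sl_ind hK with
    | h1 => rw [map_one (Fr hK), ← Prod.one_eq_mk, map_one, Twist.sg_one]
    | hu t =>
      rw [Phi_apply, Phi_apply, map_one, map_one, one_mul, mul_one, Fr_ux, phi_ux, phi_ux,
        sg_root hK (by norm_num), graph_orb.2.1]
    | hl t =>
      rw [Phi_apply, Phi_apply, map_one, map_one, one_mul, mul_one, Fr_lx, phi_lx, phi_lx,
        show T6.neg 37 = 34 from rfl, show T6.neg 42 = 29 from rfl, sg_root hK (by norm_num), graph_orb.2.2.2]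
    | hm B B' h h' =>
      rw [show ((1 : SpecialLinearGroup (Fin 2) K), B * B') = (1, B) * (1, B') by simp, map_mul,
        Twist.sg_mul _ (hG _) (hG _), h, h', ← map_mul]
      simp
  have hA : ∀ A, (tw hK).sg (Phi hK (A, 1)) = Phi hK (1, Fr hK A) := by
    intro A
    induction A using sl_ind hK with
    | h1 => rw [map_one (Fr hK), ← Prod.one_eq_mk, map_one, Twist.sg_one]
    | hu t =>
      rw [Phi_apply, Phi_apply, map_one, map_one, one_mul, mul_one, Fr_ux, phi_ux, phi_ux,
        sg_root hK (by norm_num), graph_orb.1]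
    | hl t =>
      rw [Phi_apply, Phi_apply, map_one, map_one, one_mul, mul_one, Fr_lx, phi_lx, phi_lx,
        show T6.neg 37 = 34 from rfl, show T6.neg 42 = 29 from rfl, sg_root hK (by norm_num), graph_orb.2.2.1]
    | hm B B' h h' =>
      rw [show (B * B', (1 : SpecialLinearGroup (Fin 2) K)) = (B, 1) * (B', 1) by simp, map_mul,
        Twist.sg_mul _ (hG _) (hG _), h, h', ← map_mul]
      simp
  rw [show (A, B) = (A, 1) * (1, B) by simp, map_mul, Twist.sg_mul _ (hG _) (hG _), hA, hB, ← map_mul]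
  simp

/-- The fixed part of the orbit group. -/
noncomputable def Lsub : Subgroup (GL T6.I K) := (tw hK).fix ⊓ T6.rootGen K Orb

theorem mem_Lsub {g : GL T6.I K} : g ∈ Lsub hK ↔ ∃ A, Phi hK (A, Fr hK A) = g := by
  constructor
  · rintro ⟨hf, hg⟩
    have hle : T6.rootGen K Orb ≤ (Phi hK).range := by
      refine rootGen_le fun r _ hr t => ?_
      rcases hr with rfl | rfl | rfl | rfl
      · exact ⟨(ux t, 1), by rw [Phi_apply, phi_ux, map_one, mul_one]⟩
      · exact ⟨(1, ux t), by rw [Phi_apply, phi_ux, map_one, one_mul]⟩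
      · exact ⟨(lx t, 1), by rw [Phi_apply, phi_lx, map_one, mul_one]; rfl⟩
      · exact ⟨(1, lx t), by rw [Phi_apply, phi_lx, map_one, one_mul]; rfl⟩
    obtain ⟨⟨A, B⟩, rfl⟩ := hle hg
    have e := hf.2
    rw [sg_Phi] at e
    have e2 : Fr hK A = B := (Prod.ext_iff.mp (Phi_inj hK e)).2
    exact ⟨A, by rw [e2]⟩
  · rintro ⟨A, rfl⟩
    refine ⟨⟨(tw hK).rootGen_le_group Orb (Phi_mem hK _), ?_⟩, Phi_mem hK _⟩
    rw [sg_Phi, Fr_Fr]

/-- The fixed diagonal embedding of `SL₂(4)`. -/
noncomputable def lev : SpecialLinearGroup (Fin 2) K →* GL T6.I K :=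
  (Phi hK).comp ((MonoidHom.id _).prod (Fr hK))

theorem lev_apply (A : SpecialLinearGroup (Fin 2) K) : lev hK A = Phi hK (A, Fr hK A) := rfl

theorem lev_inj : Function.Injective (lev hK) := fun _ _ e => (Prod.ext_iff.mp (Phi_inj hK e)).1

theorem Fr_Nm : Fr hK (Nm 1 (om hK)) = Nm 1 (om hK ^ 2) := by
  unfold Nm
  rw [map_mul, map_mul, map_mul, Fr_ux, Fr_lx, Fr_ux, inv_one, one_pow, one_mul, one_mul]

theorem xF_eq : xF hK = lev hK (Nm 1 (om hK)) := by
  rw [lev_apply, Phi_apply, Fr_Nm]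
  simp only [Nm, map_mul, phi_ux, phi_lx, inv_one, one_mul]
  rfl

theorem xF_mem : xF hK ∈ Lsub hK := (mem_Lsub hK).mpr ⟨_, (xF_eq hK).symm⟩

theorem xF_five : xF hK ^ 5 = 1 ∧ xF hK ≠ 1 := by
  rw [xF_eq]
  refine ⟨?_, fun e => ?_⟩
  · rw [← map_pow, show Nm (1 : K) (om hK) ^ 5 = 1 from Subtype.ext (nm_pows hK).2.2.2, map_one]
  · have h := lev_inj hK (e.trans (map_one _).symm)
    have h2 := congrArg (fun B : SpecialLinearGroup (Fin 2) K => B.1 0 0) h
    simp [val_Nm hK one_ne_zero] at h2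

/-- The centraliser of the element in the orbit group. -/
theorem cent_Lsub {g : GL T6.I K} (hg : g ∈ Lsub hK) (hc : Commute g (xF hK)) :
    g ∈ Subgroup.zpowers (xF hK) := by
  obtain ⟨A, rfl⟩ := (mem_Lsub hK).mp hg
  rw [← lev_apply, xF_eq] at hc
  have hAc : A * Nm 1 (om hK) = Nm 1 (om hK) * A := lev_inj hK (by rw [map_mul, map_mul]; exact hc.eq)
  obtain ⟨k, rfl⟩ := nm_cent hK hAc
  rw [← lev_apply, xF_eq, map_pow]
  exact pow_mem (Subgroup.mem_zpowers _) k

/-- A monomial element exchanging the two roots is not in the centraliser, even up to the orbit group. -/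
theorem no_swap {n l : GL T6.I K} {w : Equiv.Perm (Fin T6.n)} (hm : T6.Mono n w) (hl : l ∈ Lsub hK)
    (h1 : (w ⟨42, by decide⟩).val = 37) (h2 : (w ⟨37, by decide⟩).val = 42)
    (hc : Commute (l * n) (xF hK)) : False := by
  obtain ⟨A, rfl⟩ := (mem_Lsub hK).mp hl
  have key : ∀ (a b : ℕ) (ha : a < T6.n) (hb : b < T6.n), (w ⟨a, ha⟩).val = b → ∀ v : K,
      ∃ c : K, c ≠ 0 ∧ n * phi K ha (Nm 1 v) * n⁻¹ = phi K hb (Nm c v) := by
    intro a b ha hb hw v
    obtain ⟨c, hcj⟩ := hm.conj ⟨a, ha⟩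
    refine ⟨(c : K), c.ne_zero, ?_⟩
    have e1 : ∀ t, n * T6.xU K a t * n⁻¹ = T6.xU K b ((c : K) * t) := fun t => by
      have := (hcj t).1
      rw [hw] at this
      exact mul_inv_eq_iff_eq_mul.mpr this
    have e2 : ∀ t, n * T6.xU K (T6.neg a) t * n⁻¹ = T6.xU K (T6.neg b) ((c : K)⁻¹ * t) := fun t => by
      have := (hcj t).2
      rw [hw, Units.val_inv_eq_inv_val] at this
      exact mul_inv_eq_iff_eq_mul.mpr this
    have e : n * phi K ha (Nm 1 v) * n⁻¹ = (n * T6.xU K a 1 * n⁻¹) * (n * T6.xU K (T6.neg a) 1 * n⁻¹) *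
        (n * T6.xU K a 1 * n⁻¹) * (n * T6.xU K a v * n⁻¹) := by
      simp only [Nm, map_mul, phi_ux, phi_lx, inv_one, one_mul]
      group
    rw [e, e1, e2, e1]
    simp only [Nm, map_mul, phi_ux, phi_lx, mul_one]
  obtain ⟨c, hc0, ec⟩ := key 42 37 (by decide) (by decide) h1 (om hK)
  obtain ⟨d, hd0, ed⟩ := key 37 42 (by decide) (by decide) h2 (om hK ^ 2)
  have hconj : n * xF hK * n⁻¹ = Phi hK (Nm d (om hK ^ 2), Nm c (om hK)) := by
    rw [xF_eq, lev_apply, Fr_Nm, Phi_apply, Phi_apply]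
    calc _ = n * phi K (show 42 < T6.n by decide) (Nm 1 (om hK)) * n⁻¹ *
          (n * phi K (show 37 < T6.n by decide) (Nm 1 (om hK ^ 2)) * n⁻¹) := by group
      _ = _ := by rw [ec, ed]; exact (phi_commute hK _ _).eq.symm
  have hc' : Phi hK (A, Fr hK A) * (n * xF hK * n⁻¹) * (Phi hK (A, Fr hK A))⁻¹ = xF hK := by
    calc _ = Phi hK (A, Fr hK A) * n * xF hK * (Phi hK (A, Fr hK A) * n)⁻¹ := by group
      _ = _ := by rw [hc.eq, mul_inv_cancel_right]
  rw [hconj, xF_eq, lev_apply, ← map_inv, ← map_mul, ← map_mul] at hc'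
  exact nm_trace hK hd0 (Prod.ext_iff.mp (Phi_inj hK hc')).1

theorem diag_fix_le : T6.datum.diagonalSubgroup K ⊓ (tw hK).fix ≤ Lsub hK := by
  have hT := Data.E6.valid
  have h3 : Nat.card ↥(T6.datum.diagonalSubgroup K ⊓ (tw hK).fix) = 3 := by
    have h := Twist.E6.card_diag Nat.prime_two.isPrimePow (hK2 hK)
    norm_num at h
    change 3 * Nat.card ↥(T6.datum.diagonalSubgroup K ⊓ (tw hK).fix) = 9 at h
    omega
  let D : Subgroup (GL T6.I K) := T6.datum.diagonalSubgroup K ⊓ (tw hK).fix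
  have hdiag : ∀ c : Kˣ, lev hK (SL2.dh c) ∈ D := by
    intro c
    refine Subgroup.mem_inf.mpr ⟨?_, (Subgroup.mem_inf.mp ((mem_Lsub hK).mpr ⟨_, rfl⟩)).1⟩
    have hd : ∀ {a : ℕ} (ha : a < T6.n) (u : SpecialLinearGroup (Fin 2) K), u.1 0 1 = 0 → u.1 1 0 = 0 →
        phi K ha u ∈ T6.datum.diagonalSubgroup K := by
      intro a ha u h01 h10
      have hne : u.1 0 0 ≠ 0 := fun h => by
        have := u.2; rw [Matrix.det_fin_two, h, h01] at this; simp at this
      show (sl2Data hT ha).map u ∈ _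
      rw [(sl2Data hT ha).map_zero h10 (Units.mk0 _ hne) rfl, h01, zero_div, SL2.Data.x_zero, mul_one,
        diagonalSubgroup_eq hT]
      exact Subgroup.subset_closure ⟨_, ha, _, rfl⟩
    rw [lev_apply, Phi_apply]
    refine mul_mem (hd _ _ rfl rfl) (hd _ _ ?_ ?_) <;> rw [Fr_val] <;> simp [SL2.dh]
  haveI : Finite ↥D := Finite.of_injective (fun g : ↥D => ((g : GL T6.I K) : Matrix T6.I T6.I K))
    fun a b e => Subtype.ext (Units.ext e)
  let f : Kˣ → ↥D := fun c => ⟨lev hK (SL2.dh c), hdiag c⟩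
  have hf : Function.Injective f := fun a b e => by
    have := congrArg (fun B : SpecialLinearGroup (Fin 2) K => B.1 0 0) (lev_inj hK (congrArg Subtype.val e))
    exact Units.ext (by simpa [SL2.dh] using this)
  have hb := hf.bijective_of_nat_card_le (by rw [h3, Nat.card_units, hK])
  intro g hg
  obtain ⟨c, hc⟩ := hb.2 ⟨g, hg⟩
  exact (mem_Lsub hK).mpr ⟨SL2.dh c, congrArg Subtype.val hc⟩

omit [Finite K] in
/-- The reflection of the orbit. -/
noncomputable def sN : GL T6.I K := lev hK SL2.wn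

end Levi

end CfsgLib.Chevalley.TwistE6Five
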