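import Cfsg.Agent.Lib.Chevalley.TwistE6Five.Parabolic
import Cfsg.Agent.Lib.Chevalley.TwistE6Five.Fusion

/-!
The elements of order five of ²E₆(2).
-/

set_option autoImplicit false
set_option maxRecDepth 100000
set_option Elab.async false

namespace CfsgLib.Chevalley.TwistE6Five

open Tbl

variable {K : Type*} [Field K] [Finite K] (hK : Nat.card K = 4)
include hK

theorem card_fix_eq : Nat.card ↥(tw hK).fix = 25 * 3061299187350994157568 := by
  have h := Twist.E6.card_eq Nat.prime_two.isPrimePow (hK2 hK)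
  rw [Twist.E6.G_eq, show Nat.gcd 3 (2 + 1) = 3 from rfl] at h
  change 3 * Nat.card ↥(tw hK).fix = _ at h
  norm_num only at h
  omega

theorem five_classes :
    (∀ a b : ↥(tw hK).fix, orderOf a = 5 → orderOf b = 5 → IsConj a b) ∧
      ∀ a : ↥(tw hK).fix, orderOf a = 5 → Nonempty (↥(Subgroup.centralizer ({a} : Set ↥(tw hK).fix)) ≃*
        (Multiplicative (ZMod 5) × ↥(alternatingGroup (Fin 8)))) := by
  classical
  have : Finite ↥(tw hK).fix := Finite.of_injective
    (fun g : ↥(tw hK).fix => ((g : GL T6.I K) : Matrix T6.I T6.I K)) fun a b e => Subtype.ext (Units.ext e)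
  let x : ↥(tw hK).fix := ⟨xF hK, (xF_mem hK).1⟩
  let C : Subgroup ↥(tw hK).fix := Subgroup.centralizer ({x} : Set ↥(tw hK).fix)
  let p : ↥(alternatingGroup (Fin 8)) →* ↥(tw hK).fix :=
    (psi hK).codRestrict _ fun a => psi_fix hK ⟨a, rfl⟩
  have hpx : ∀ a, Commute (p a) x := fun a =>
    Subtype.ext (psi_commute hK ⟨a, rfl⟩ (xF_mem hK).2).eq
  have hx5 : x ^ 5 = 1 := Subtype.ext (xF_five hK).1
  let z : Multiplicative (ZMod 5) →* ↥(tw hK).fix :=
    MonoidHom.mk' (fun k => x ^ k.toAdd.val) fun a b => by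
      show x ^ (a.toAdd + b.toAdd).val = _
      rw [← pow_add, ZMod.val_add]
      conv_rhs => rw [← Nat.mod_add_div (a.toAdd.val + b.toAdd.val) 5, pow_add, pow_mul, hx5, one_pow,
        mul_one]
  let F : Multiplicative (ZMod 5) × ↥(alternatingGroup (Fin 8)) →* ↥(tw hK).fix :=
    MonoidHom.noncommCoprod z p fun k a => ((hpx a).pow_right _).symm
  have hFC : ∀ q, F q ∈ C := fun q => Subgroup.mem_centralizer_singleton_iff.mpr
    (((Commute.pow_self x _).mul_left (hpx q.2)).eq)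
  have hinj : Function.Injective F := by
    rw [← MonoidHom.ker_eq_bot_iff, eq_bot_iff]
    rintro ⟨k, a⟩ hk
    change x ^ k.toAdd.val * p a = 1 at hk
    have e : psi hK a = (xF hK ^ k.toAdd.val)⁻¹ :=
      eq_inv_of_mul_eq_one_right (congrArg Subtype.val hk)
    have ha : a = 1 := psi_center hK fun b => by
      rw [e]
      exact ((psi_commute hK ⟨b, rfl⟩ (xF_mem hK).2).pow_right _).inv_right.symm
    subst ha
    rw [map_one, mul_one] at hk
    have hox : orderOf x = 5 := by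
      have : Fact (Nat.Prime 5) := ⟨by norm_num⟩
      exact orderOf_eq_prime hx5 fun e => (xF_five hK).2 (congrArg Subtype.val e)
    have h5 : orderOf x ∣ k.toAdd.val := orderOf_dvd_of_pow_eq_one hk
    rw [hox] at h5
    have h0 : k.toAdd = 0 := by
      have := ZMod.val_lt k.toAdd
      exact (ZMod.val_eq_zero _).mp (Nat.eq_zero_of_dvd_of_lt h5 this)
    rw [Subgroup.mem_bot]
    exact Prod.ext (Multiplicative.toAdd.injective h0) rfl
  have hsurj : ∀ g ∈ C, ∃ q, F q = g := by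
    intro g hg
    have hc : Commute (g : GL T6.I K) (xF hK) := congrArg Subtype.val (Subgroup.mem_centralizer_singleton_iff.mp hg)
    have hm := cent_x hK g.2 hc
    have key : ∀ y ∈ Subgroup.zpowers (xF hK) ⊔ (psi hK).range, ∃ q, (F q : GL T6.I K) = y := by
      have : Subgroup.zpowers (xF hK) ⊔ (psi hK).range ≤ F.range.map (tw hK).fix.subtype := by
        refine sup_le ?_ ?_
        · rw [Subgroup.zpowers_le]
          refine ⟨x, ⟨(Multiplicative.ofAdd 1, 1), ?_⟩, rfl⟩
          show x ^ (1 : ZMod 5).val * p 1 = x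
          rw [map_one, mul_one, show (1 : ZMod 5).val = 1 from rfl, pow_one]
        · rintro _ ⟨a, rfl⟩
          refine ⟨p a, ⟨(1, a), ?_⟩, rfl⟩
          show z 1 * p a = p a
          rw [map_one, one_mul]
      intro y hy
      obtain ⟨_, ⟨q, rfl⟩, e⟩ := this hy
      exact ⟨q, e⟩
    obtain ⟨q, e⟩ := key _ hm
    exact ⟨q, Subtype.ext e⟩
  let f : Multiplicative (ZMod 5) × ↥(alternatingGroup (Fin 8)) ≃* ↥C :=
    MulEquiv.ofBijective (F.codRestrict C hFC)
      ⟨fun a b e => hinj (congrArg Subtype.val e), fun g => by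
        obtain ⟨q, e⟩ := hsurj g.1 g.2
        exact ⟨q, Subtype.ext e⟩⟩
  refine fusion (card_fix_eq hK) (by norm_num) f ?_ ?_
  · show x ^ (1 : ZMod 5).val * p 1 = x
    rw [map_one, mul_one, show (1 : ZMod 5).val = 1 from rfl, pow_one]
  · obtain ⟨g, hg, i, e⟩ := conj_into_psi hK orderOf_five
    refine ⟨i, isConj_iff.mpr ⟨⟨g, hg⟩, ?_⟩⟩
    show (⟨g, hg⟩ : ↥(tw hK).fix) * x ^ i * (⟨g, hg⟩ : ↥(tw hK).fix)⁻¹ = z 1 * p five
    rw [map_one, one_mul]
    exact Subtype.ext e

theorem five_classes_twisted :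
    (∀ x y : ↥(Cfsg.Lie.twistedE6 K 2), orderOf x = 5 → orderOf y = 5 → IsConj x y) ∧
      ∀ x : ↥(Cfsg.Lie.twistedE6 K 2), orderOf x = 5 →
        Nonempty (↥(Subgroup.centralizer ({x} : Set ↥(Cfsg.Lie.twistedE6 K 2))) ≃*
          (Multiplicative (ZMod 5) × ↥(alternatingGroup (Fin 8)))) :=
  Twist.E6.transfer Nat.prime_two.isPrimePow (hK2 hK)
    (fun _ G => (∀ x y : ↥G, orderOf x = 5 → orderOf y = 5 → IsConj x y) ∧
      ∀ x : ↥G, orderOf x = 5 → Nonempty (↥(Subgroup.centralizer ({x} : Set ↥G)) ≃*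
        (Multiplicative (ZMod 5) × ↥(alternatingGroup (Fin 8))))) (five_classes hK)

end CfsgLib.Chevalley.TwistE6Five
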