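import Cfsg.Agent.Lib.Chevalley.TwistE6Five.Cent

/-!
A parabolic subgroup of ²E₆(2) whose order is divisible by five only once, and a fusion inside it.
-/

set_option autoImplicit false
set_option maxRecDepth 100000
set_option maxHeartbeats 1000000
set_option Elab.async false

namespace CfsgLib.Chevalley.TwistE6Five

open Tbl

/-- The coefficient sum at the end nodes. -/
def endDeg (r : ℕ) : ℤ := T6.co r 0 + T6.co r 5

theorem grad_end : Grad endDeg :=
  ⟨fun a _ b _ u hu => by unfold endDeg; rw [hu 0 (by decide), hu 5 (by decide)]; ring, by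
    show ∀ r < 72, endDeg (T6.neg r) = -endDeg r
    decide +kernel⟩

theorem end_sum' : (∑ m ∈ Finset.univ.filter (fun m : Fin 1152 => keepsEnd m.val),
    2 ^ T6.cntNeg (Data.E6.elts.ent m.val).key 36) % 25 ≠ 0 := by
  decide +kernel

variable {K : Type*} [Field K] [Finite K] (hK : Nat.card K = 4)
include hK

/-- The parabolic subgroup. -/
noncomputable def PJ : Subgroup (GL T6.I K) := (tw hK).fix ⊓ T6.upSub K (grI endDeg)

theorem endDeg_pos {r : ℕ} (hr : r < 72) (h : 36 ≤ r) : 0 ≤ endDeg r :=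
  add_nonneg (co_nonneg Data.E6.valid hr (isPos_iff.mpr h) (by decide))
    (co_nonneg Data.E6.valid hr (isPos_iff.mpr h) (by decide))

theorem pos_le_up : T6.rootGen K (fun r => T6.half ≤ r) ≤ T6.upSub K (grI endDeg) :=
  rootGen_le fun _ hr h t => xU_up grad_end hr (endDeg_pos hK hr h) t

theorem keep_up {n : GL T6.I K} {w : Equiv.Perm (Fin T6.n)} (hn : n ∈ T6.datum.monomialSubgroup K)
    (hm : T6.Mono n w) (hk : ∀ r : Fin T6.n, endDeg (w r).val = endDeg r.val) :
    n ∈ T6.upSub K (grI endDeg) := by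
  have hT := Data.E6.valid
  have key : ∀ (n : GL T6.I K) (w : Equiv.Perm (Fin T6.n)), n ∈ T6.datum.monomialSubgroup K → T6.Mono n w →
      (∀ r : Fin T6.n, endDeg (w r).val = endDeg r.val) →
      ∀ row col, grI endDeg row < grI endDeg col → (n : Matrix T6.I T6.I K) row col = 0 := by
    intro n w hn hm hk row col hlt
    rcases col with i | s
    · rcases row with j | v
      · exact absurd hlt (lt_irrefl 0)
      · -- the Cartan part is stable under monomial elements
        obtain ⟨l, hl, e⟩ := (monomial_le_normalizer (F := K) hT) hn |> fun _ => exists_nw hT hn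
        obtain ⟨χ, -, rfl⟩ := diag_exists_char hT hl
        obtain ⟨L, rfl⟩ : ∃ L, T6.dU χ * T6.nw K L = n := ⟨e.choose, e.choose_spec.symm⟩
        have hz : ∀ L : List (Fin T6.rank), ∀ (v : Fin T6.n) (i : Fin T6.rank),
            ((T6.nw K L : GL T6.I K) : Matrix T6.I T6.I K) (Sum.inr v) (Sum.inl i) = 0 := by
          intro L
          induction L with
          | nil => intro v i; simp [nw]
          | cons a L ih =>
            intro v i
            rw [show T6.nw K (a :: L) = T6.nU K (T6.simple a) 1 * T6.nw K L from rfl, Units.val_mul,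
              Matrix.mul_apply]
            refine Finset.sum_eq_zero fun c _ => ?_
            rcases c with j | u
            · rw [nU_simple_inl hT a.2 (Sum.inr v) j]
              simp
            · rw [ih u i, mul_zero]
        rw [Units.val_mul, dU_val, Matrix.diagonal_mul, hz, mul_zero]
    · refine hm.col s row fun e => ?_
      subst e
      have h := hk s
      change endDeg (w s).val < endDeg s.val at hlt
      omega
  refine ⟨key n w hn hm hk, key n⁻¹ w⁻¹ (inv_mem hn) hm.inv fun r => ?_⟩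
  have h := hk (w⁻¹ r)
  rw [show w (w⁻¹ r) = r from w.apply_symm_apply r] at h
  exact h.symm

theorem card_PJ : ¬ 25 ∣ Nat.card ↥(PJ hK) := by
  classical
  have hT := Data.E6.valid
  have hC := Data.E6.chkComm
  have := Fintype.ofFinite K
  let A := setup6 hK
  let S := tw hK
  have hV := A.hV
  let B := {w : ↥S.W1 // ∀ r : Fin T6.n, endDeg ((w : Equiv.Perm (Fin T6.n)) r).val = endDeg r.val}
  let rp : ↥S.W1 → ↥(T6.datum.monomialSubgroup K ⊓ S.fix) := fun w => (Twist.wHom1_surjective hV w).choose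
  have hrp : ∀ w, T6.Mono (rp w : GL T6.I K) (w : Equiv.Perm (Fin T6.n)) := fun w => by
    have := S.mono_wHom1 (rp w)
    rwa [show S.wHom1 (rp w) = w from (Twist.wHom1_surjective hV w).choose_spec] at this
  let f : (Σ w : B, ↥(T6.datum.posUnipotent K ⊓ S.fix) × ↥(T6.datum.diagonalSubgroup K ⊓ S.fix) ×
      ↥(S.Uw (w.1 : Equiv.Perm (Fin T6.n)))) → ↥(PJ hK) := fun x =>
    ⟨(x.2.1 : GL T6.I K) * (x.2.2.1 : GL T6.I K) * (rp x.1.1 : GL T6.I K) * (x.2.2.2 : GL T6.I K),
      Subgroup.mem_inf.mpr ⟨mul_mem (mul_mem (mul_mem x.2.1.2.2 x.2.2.1.2.2) (rp x.1.1).2.2)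
        (Subgroup.mem_inf.mp x.2.2.2.2).1,
      mul_mem (mul_mem (mul_mem (pos_le_up hK (posUnipotent_rootGen (F := K) hT ▸ x.2.1.2.1))
        (diag_up endDeg x.2.2.1.2.1)) (keep_up hK (rp x.1.1).2.1 (hrp x.1.1) x.1.2))
        (pos_le_up hK (rootGen_mono (fun r _ ⟨_, h, _⟩ => h) (Subgroup.mem_inf.mp x.2.2.2.2).2))⟩⟩
  have hB : ∀ (a : ↥(T6.datum.posUnipotent K ⊓ S.fix)) (h : ↥(T6.datum.diagonalSubgroup K ⊓ S.fix)),
      (a : GL T6.I K) * (h : GL T6.I K) ∈ T6.datum.borelSubgroup K := fun a h =>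
    mul_mem (Subgroup.mem_sup_left a.2.1) (Subgroup.mem_sup_right h.2.1)
  have hf : Function.Bijective f := by
    refine ⟨?_, fun g => ?_⟩
    · rintro ⟨w, a, h, u⟩ ⟨w', a', h', u'⟩ e
      have e' := congrArg Subtype.val e
      obtain ⟨h1, h2⟩ := canonical_unique hT hC (hB a h) (hB a' h') (rp w.1).2.1 (rp w'.1).2.1 (hrp w.1)
        u.2.2 u'.2.2 e'
      have hww : w = w' := by
        have h3 := ((hrp w.1).inv.mul (hrp w'.1)).unique (mono_diag hT h1)
        rw [inv_mul_eq_one] at h3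
        exact Subtype.ext (Subtype.ext h3)
      subst hww
      obtain ⟨hb, hu⟩ := h2 (hrp w.1) rfl
      obtain ⟨ha, hh⟩ := borel_unique hT hC (posUnipotent_rootGen (F := K) hT ▸ a.2.1)
        (posUnipotent_rootGen (F := K) hT ▸ a'.2.1) h.2.1 h'.2.1 hb
      obtain rfl := Subtype.ext ha
      obtain rfl := Subtype.ext hh
      obtain rfl := Subtype.ext hu
      rfl
    · obtain ⟨hgf, hgu⟩ := Subgroup.mem_inf.mp g.2
      obtain ⟨a, ha, haf, n, hn, hnf, w, hw, hm, u, hu, huf, e⟩ := S.fix_canonical hgf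
      have hnU : n ∈ T6.upSub K (grI endDeg) := by
        rw [show n = a⁻¹ * (g : GL T6.I K) * u⁻¹ by rw [e]; group]
        exact mul_mem (mul_mem (inv_mem (pos_le_up hK ha)) hgu)
          (inv_mem (pos_le_up hK (rootGen_mono (fun r _ ⟨_, h, _⟩ => h) hu)))
      let w' : B := ⟨⟨w, hw⟩, mono_up grad_end hm hnU⟩
      have hd : n * (rp ⟨w, hw⟩ : GL T6.I K)⁻¹ ∈ T6.datum.diagonalSubgroup K := by
        refine mem_diag_of_mono_one hT (mul_mem hn (inv_mem (rp _).2.1)) ?_
        have := hm.mul (hrp ⟨w, hw⟩).inv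
        rwa [mul_inv_cancel] at this
      refine ⟨⟨w', ⟨a, (posUnipotent_rootGen (F := K) hT).symm ▸ ha, haf⟩,
        ⟨_, Subgroup.mem_inf.mpr ⟨hd, mul_mem hnf (inv_mem (Subgroup.mem_inf.mp (rp _).2).2)⟩⟩,
        ⟨u, Subgroup.mem_inf.mpr ⟨huf, hu⟩⟩⟩, Subtype.ext ?_⟩
      show a * (n * (rp ⟨w, hw⟩ : GL T6.I K)⁻¹) * (rp ⟨w, hw⟩ : GL T6.I K) * u = (g : GL T6.I K)
      rw [e]
      group
  -- the summands
  obtain ⟨hU, hUw⟩ := A.card_Upos (q := 2) (Twist.E6.hcard Nat.prime_two.isPrimePow (hK2 hK))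
  have hT3 : Nat.card ↥(T6.datum.diagonalSubgroup K ⊓ S.fix) = 3 := by
    have h := Twist.E6.card_diag Nat.prime_two.isPrimePow (hK2 hK)
    rw [show Nat.gcd 3 (2 + 1) = 3 from rfl] at h
    simp only [Nat.reduceSub, Nat.reducePow, Nat.reduceMul] at h
    change 3 * Nat.card ↥(T6.datum.diagonalSubgroup K ⊓ S.fix) = 9 at h
    omega
  -- the index set
  choose ix hix hval using fun w : ↥S.W1 => exists_img hK w.2
  let g0 : ↥S.W1 → Fin 1152 := fun w => ⟨ix w, hix w⟩
  have hg0 : Function.Bijective g0 := by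
    refine (Nat.bijective_iff_injective_and_card _).mpr ⟨fun w w' e => ?_, ?_⟩
    · exact Subtype.ext (A.D.pos_det w.2.1 w'.2.1 fun r hr => Fin.ext (by
        rw [hval w r hr, hval w' r hr, show ix w = ix w' from congrArg Fin.val e]))
    · rw [Nat.card_fin]
      exact A.D.card_W1 A.hO rfl Data.E6.chk_elts
  have hkeep : ∀ w : ↥S.W1, (∀ r : Fin T6.n, endDeg ((w : Equiv.Perm (Fin T6.n)) r).val = endDeg r.val) ↔
      keepsEnd (g0 w).val = true := by
    intro w
    simp only [keepsEnd, allLt_iff, decide_eq_true_eq]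
    refine ⟨fun h k hk => ?_, fun h r => ?_⟩
    · have := h ⟨36 + k, show 36 + k < 72 by omega⟩
      rw [hval w _ (Nat.le_add_right _ _)] at this
      exact this
    · have hp : ∀ r : Fin T6.n, 36 ≤ r.val → endDeg ((w : Equiv.Perm (Fin T6.n)) r).val = endDeg r.val := by
        intro r hr
        have h3 : r.val < 72 := r.2
        have := h (r.val - 36) (by omega)
        rw [show 36 + (r.val - 36) = r.val by omega] at this
        rw [hval w r hr]
        exact this
      by_cases hr : 36 ≤ r.val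
      · exact hp r hr
      · have h1 := hp (T6.negF r) (le_negF (T := T6) (show r.val < T6.half from not_le.mp hr))
        rw [WP_negF hT w.2.1] at h1
        have e1 : endDeg (T6.negF r).val = -endDeg r.val := grad_end.neg r.val r.2
        have e2 : endDeg (T6.negF ((w : Equiv.Perm (Fin T6.n)) r)).val =
            -endDeg ((w : Equiv.Perm (Fin T6.n)) r).val := grad_end.neg _ ((w : Equiv.Perm (Fin T6.n)) r).2
        linarith
  have hinv : ∀ w : ↥S.W1, T6.invN (w : Equiv.Perm (Fin T6.n)) = T6.cntNeg (Data.E6.elts.ent (g0 w).val).key 36 := by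
    intro w
    rw [TwistData.cntNeg_eq, invN]
    refine Finset.card_bij (fun r _ => r.val - 36) (fun r hr => ?_) (fun a ha b hb e => ?_) (fun i hi => ?_)
    · simp only [Finset.mem_filter, Finset.mem_univ, true_and] at hr
      obtain ⟨h1, h2⟩ := hr
      have h1' : 36 ≤ r.val := h1
      have h3 : r.val < 72 := r.2
      rw [Finset.mem_filter, Finset.mem_range]
      refine ⟨by omega, ?_⟩
      rw [hval w r h1'] at h2
      exact h2
    · simp only [Finset.mem_filter, Finset.mem_univ, true_and] at ha hb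
      have ha' : 36 ≤ a.val := ha.1
      have hb' : 36 ≤ b.val := hb.1
      exact Fin.ext (by omega)
    · rw [Finset.mem_filter, Finset.mem_range] at hi
      refine ⟨⟨36 + i, show 36 + i < 72 by omega⟩, ?_, Nat.add_sub_cancel_left _ _⟩
      simp only [Finset.mem_filter, Finset.mem_univ, true_and]
      refine ⟨Nat.le_add_right _ _, ?_⟩
      rw [hval w _ (Nat.le_add_right _ _)]
      show byteAt _ (36 + i - 36) < T6.half
      rw [Nat.add_sub_cancel_left]
      exact hi.2
  have hsum : ∑ w : B, 2 ^ T6.invN (w.1 : Equiv.Perm (Fin T6.n)) =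
      ∑ m ∈ Finset.univ.filter (fun m : Fin 1152 => keepsEnd m.val), 2 ^ T6.cntNeg (Data.E6.elts.ent m.val).key 36 := by
    refine Finset.sum_bij (fun w _ => g0 w.1) (fun w _ => ?_) (fun a _ b _ e => Subtype.ext (hg0.1 e))
      (fun m hm => ?_) (fun w _ => by rw [hinv])
    · exact Finset.mem_filter.mpr ⟨Finset.mem_univ _, (hkeep w.1).mp w.2⟩
    · obtain ⟨w, rfl⟩ := hg0.2 m
      exact ⟨⟨w, (hkeep w).mpr (Finset.mem_filter.mp hm).2⟩, Finset.mem_univ _, rfl⟩
  have hcard : Nat.card ↥(PJ hK) = 2 ^ 36 * 3 * ∑ w : B, 2 ^ T6.invN (w.1 : Equiv.Perm (Fin T6.n)) := by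
    rw [← Nat.card_eq_of_bijective f hf, Nat.card_sigma, Finset.mul_sum]
    refine Finset.sum_congr rfl fun w _ => ?_
    rw [Nat.card_prod, Nat.card_prod, hU, hT3, hUw _ w.1.2, mul_assoc]
    rfl
  rw [hcard, hsum]
  intro h
  exact end_sum' (Nat.mod_eq_zero_of_dvd (Nat.Coprime.dvd_of_dvd_mul_left (by norm_num) h))

theorem exists_word_rep (L : List (Fin 4)) : ∃ n ∈ T6.datum.monomialSubgroup K, n ∈ (tw hK).fix ∧
    ∃ v : Equiv.Perm (Fin T6.n), T6.Mono n v ∧
      ∀ r : Fin T6.n, (v r).val = T6.actWord ((L.map Fin.val).flatMap fun j => Data.E6.orbWords.getD j []) r.val := by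
  induction L with
  | nil => exact ⟨1, one_mem _, one_mem _, 1, Mono.one, fun r => rfl⟩
  | cons j L ih =>
    obtain ⟨n, hn, hnf, v, hm, hv⟩ := ih
    let jj : Fin (setup6 hK).O.o := ⟨j.val, j.2⟩
    refine ⟨Twist.rep (setup6 hK).hV jj * n, mul_mem (Twist.rep_N _ jj) hn, mul_mem (Twist.rep_fix _ jj) hnf,
      _, (Twist.rep_mono (setup6 hK).hV jj).mul hm, fun r => ?_⟩
    rw [Equiv.Perm.mul_apply, List.map_cons, List.flatMap_cons, actWord_append, ← hv r]
    exact (setup6 hK).D.orbits_wJ (setup6 hK).hO jj (v r)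

/-- A power of the element is conjugate to any element of order five of the orthogonal system. -/
theorem conj_into_psi {a : ↥(alternatingGroup (Fin 8))} (ha : orderOf a = 5) :
    ∃ g ∈ (tw hK).fix, ∃ i : ℕ, g * xF hK ^ i * g⁻¹ = psi hK a := by
  classical
  have hT := Data.E6.valid
  have : Fact (Nat.Prime 5) := ⟨by norm_num⟩
  obtain ⟨n0, hn0, hn0f, v, hm, hv⟩ := exists_word_rep hK w0List
  set y := n0 * psi hK a * n0⁻¹ with hy
  have hpf : psi hK a ∈ (tw hK).fix := psi_fix hK ⟨a, rfl⟩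
  have hyP : y ∈ PJ hK := by
    refine Subgroup.mem_inf.mpr ⟨mul_mem (mul_mem hn0f hpf) (inv_mem hn0f), ?_⟩
    have h1 : y ∈ T6.rootGen K (fun r => r < 72 ∧ endDeg r = 0) := by
      refine conj_mem_rootGen hT hm (fun r hr => ⟨(v r).2, ?_⟩) (psi_orth hK ⟨a, rfl⟩)
      rw [hv]
      exact w0_facts r.val r.2 hr
    exact (rootGen_le fun r hr h t => xU_up grad_end hr h.2.ge t :
      T6.rootGen K (fun r => r < 72 ∧ endDeg r = 0) ≤ T6.upSub K (grI endDeg)) h1
  have hxP : xF hK ∈ PJ hK := by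
    refine Subgroup.mem_inf.mpr ⟨(xF_mem hK).1, ?_⟩
    exact (rootGen_le fun r hr h t => xU_up grad_end hr (by
      rcases h with rfl | rfl | rfl | rfl <;> decide +kernel) t :
      T6.rootGen K Orb ≤ T6.upSub K (grI endDeg)) (xF_mem hK).2
  haveI : Finite ↥(PJ hK) := Finite.of_injective (fun g : ↥(PJ hK) => ((g : GL T6.I K) : Matrix T6.I T6.I K))
    fun a b e => Subtype.ext (Units.ext e)
  have hox : orderOf (⟨xF hK, hxP⟩ : ↥(PJ hK)) = 5 := by
    rw [← Subgroup.orderOf_coe]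
    exact orderOf_eq_prime (xF_five hK).1 (xF_five hK).2
  have hoy : orderOf (⟨y, hyP⟩ : ↥(PJ hK)) = 5 := by
    rw [← Subgroup.orderOf_coe]
    show orderOf (MulAut.conj n0 (psi hK a)) = 5
    rw [MulEquiv.orderOf_eq, orderOf_injective _ (psi_inj hK), ha]
  have hfac : (Nat.card ↥(PJ hK)).factorization 5 = 1 := by
    have h5 : 5 ∣ Nat.card ↥(PJ hK) := hox ▸ orderOf_dvd_natCard _
    obtain ⟨c, hc⟩ := h5
    have hc5 : ¬ 5 ∣ c := fun ⟨d, hd⟩ => card_PJ hK ⟨d, by rw [hc, hd]; ring⟩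
    rw [hc, Nat.factorization_mul (by norm_num) (by rintro rfl; exact hc5 (dvd_zero 5)), Finsupp.add_apply,
      Nat.Prime.factorization_self (by norm_num), Nat.factorization_eq_zero_of_not_dvd hc5]
  let P : Sylow 5 ↥(PJ hK) := Sylow.ofCard (Subgroup.zpowers ⟨xF hK, hxP⟩)
    (by rw [Nat.card_zpowers, hox, hfac, pow_one])
  let Q' : Sylow 5 ↥(PJ hK) := Sylow.ofCard (Subgroup.zpowers ⟨y, hyP⟩)
    (by rw [Nat.card_zpowers, hoy, hfac, pow_one])
  obtain ⟨g, hg⟩ := MulAction.exists_smul_eq ↥(PJ hK) P Q'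
  have hmem : (⟨y, hyP⟩ : ↥(PJ hK)) ∈ (g • P : Sylow 5 ↥(PJ hK)) := by
    rw [hg, ← SetLike.mem_coe, ← Sylow.coe_coe, Sylow.coe_ofCard]
    exact Subgroup.mem_zpowers _
  rw [← SetLike.mem_coe, ← Sylow.coe_coe, Sylow.coe_subgroup_smul, Sylow.coe_ofCard] at hmem
  obtain ⟨z, hz, he⟩ := hmem
  obtain ⟨i, rfl⟩ := mem_powers_iff_mem_zpowers.mpr hz
  have he' : (g : GL T6.I K) * xF hK ^ i * (g : GL T6.I K)⁻¹ = y := congrArg Subtype.val he
  refine ⟨n0⁻¹ * (g : GL T6.I K), mul_mem (inv_mem hn0f) (Subgroup.mem_inf.mp g.2).1, i, ?_⟩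
  calc _ = n0⁻¹ * ((g : GL T6.I K) * xF hK ^ i * (g : GL T6.I K)⁻¹) * n0 := by group
    _ = psi hK a := by rw [he', hy]; group

end CfsgLib.Chevalley.TwistE6Five
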