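import Cfsg.Agent.Lib.Chevalley.Twist.InstE6
import Cfsg.Agent.Lib.Chevalley.Levi

/-!
Root facts for the short root orbit of type ²E₆, and the field with four elements.
-/

set_option autoImplicit false
set_option maxRecDepth 20000
set_option Elab.async false

namespace CfsgLib.Chevalley.TwistE6Five

open Tbl

/-- The table of type E6. -/
abbrev T6 : Tbl := Data.E6.tbl

/-- The coefficient sum outside the orbit. -/
def D (r : ℕ) : ℤ := T6.co r 0 + T6.co r 1 + T6.co r 3 + T6.co r 5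

/-- The roots of the orbit. -/
abbrev Orb (r : ℕ) : Prop := r = 42 ∨ r = 37 ∨ r = 29 ∨ r = 34

/-- The roots orthogonal to the orbit. -/
abbrev Orth (r : ℕ) : Prop := T6.ca 2 r = 0 ∧ T6.ca 4 r = 0

/-- A coordinate seeing the root modulo two. -/
def kk (r : ℕ) : ℕ := ((List.range 6).find? fun k => decide (T6.ca k r % 2 = 1)).getD 0

/-- The root `r + a`. -/
def sh (a r : ℕ) : ℕ := ((T6.sum? a r).map Prod.fst).getD r

theorem kk_facts : ∀ r < 72, kk r < 6 ∧ T6.ca (kk r) r % 2 = 1 := by decide +kernel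

theorem D_facts : ∀ r < 72, ¬ Orb r → (36 ≤ r ↔ 0 < D r) ∧ (r < 36 ↔ D r < 0) := by decide +kernel

theorem D_le : ∀ r < 72, D r ≤ 7 := by decide +kernel

theorem D_orb : ∀ r < 72, Orb r → D r = 0 := by decide +kernel

theorem orb_lt {r : ℕ} (h : Orb r) : r < 72 := by
  rcases h with rfl | rfl | rfl | rfl <;> norm_num

theorem orth_fix : ∀ r < 72, Orth r → Data.E6.graph.ρ r = r ∧ ¬ Orb r ∧
    T6.pair 42 r = 0 ∧ T6.pair 37 r = 0 ∧ T6.pair 29 r = 0 ∧ T6.pair 34 r = 0 := by decide +kernel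

theorem pair_or : ∀ r < 72, ¬ Orb r → ∀ a ∈ [42, 37, 29, 34],
    T6.pair a r = 1 ∨ T6.pair a r = -1 ∨ T6.pair a r = 0 := by decide +kernel

theorem move_facts : ∀ a ∈ [42, 37, 29, 34], ∀ s < 72, ¬ Orb s → s ≠ a ∧ a ≠ T6.neg s ∧
    (T6.pair a s ≠ -1 → T6.commT s a = []) ∧
    (T6.pair a s = -1 → sh a s < 72 ∧ ¬ Orb (sh a s) ∧ D (sh a s) = D s ∧ sh a s ≠ s ∧
      T6.pair a (sh a s) = 1 ∧ sh (T6.neg a) (sh a s) = s ∧ T6.commT (sh a s) a = [] ∧
      ∃ N ∈ [(1 : ℤ), -1], T6.commT s a = [(sh a s, N, 1, 1)]) ∧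
    (T6.pair a s = 1 → sh (T6.neg a) s < 72 ∧ ¬ Orb (sh (T6.neg a) s) ∧ D (sh (T6.neg a) s) = D s ∧
      sh a (sh (T6.neg a) s) = s ∧ T6.pair a (sh (T6.neg a) s) = -1) := by
  decide +kernel

theorem graph_facts : ∀ r < 72, Data.E6.graph.ρ r < 72 ∧ (Data.E6.graph.ε r = 1 ∨ Data.E6.graph.ε r = -1) ∧
    Data.E6.graph.lam r = 1 ∧ D (Data.E6.graph.ρ r) = D r := by decide +kernel

section Field

variable {K : Type*} [Field K] [Finite K] (hK : Nat.card K = 4)
include hK

theorem two_zero : (2 : K) = 0 := by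
  have := Fintype.ofFinite K
  have h := Nat.cast_card_eq_zero K
  rw [← Nat.card_eq_fintype_card, hK] at h
  have h2 : (2 : K) * 2 = 0 := by
    rw [← h]; norm_num
  exact mul_self_eq_zero.mp h2

theorem neg_one : (-1 : K) = 1 := by linear_combination -two_zero hK

theorem neg_eq (t : K) : -t = t := by linear_combination -t * two_zero hK

theorem add_self (t : K) : t + t = 0 := by linear_combination t * two_zero hK

theorem odd_cast {z : ℤ} (h : z % 2 = 1) : (z : K) = 1 := by
  obtain ⟨w, rfl⟩ : ∃ w, z = 2 * w + 1 := ⟨z / 2, by omega⟩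
  push_cast
  rw [two_zero hK, zero_mul, zero_add]

theorem sign_cast {z : ℤ} (h : z = 1 ∨ z = -1) : (z : K) = 1 :=
  odd_cast hK (by rcases h with rfl | rfl <;> rfl)

theorem pow_four (t : K) : t ^ 4 = t := by
  have := Fintype.ofFinite K
  have h := FiniteField.pow_card t
  rwa [← Nat.card_eq_fintype_card, hK] at h

theorem pow_three {t : K} (ht : t ≠ 0) : t ^ 3 = 1 :=
  mul_left_cancel₀ ht (by rw [mul_one, ← pow_succ']; exact pow_four hK t)

theorem exists_omega : ∃ w : K, w ^ 2 + w + 1 = 0 := by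
  classical
  have := Fintype.ofFinite K
  have hcard : ({0, 1} : Finset K).card < Fintype.card K := by
    rw [← Nat.card_eq_fintype_card, hK]
    exact lt_of_le_of_lt Finset.card_le_two (by norm_num)
  obtain ⟨w, -, hw⟩ := Finset.exists_mem_notMem_of_card_lt_card (t := Finset.univ) hcard
  simp only [Finset.mem_insert, Finset.mem_singleton, not_or] at hw
  refine ⟨w, ?_⟩
  have h3 := pow_three hK hw.1
  have h4 : (w - 1) * (w ^ 2 + w + 1) = 0 := by linear_combination h3
  exact (mul_eq_zero.mp h4).resolve_left (sub_ne_zero.mpr hw.2)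

/-- A primitive cube root of one. -/
noncomputable def om : K := (exists_omega hK).choose

theorem om_eq : om hK ^ 2 + om hK + 1 = 0 := (exists_omega hK).choose_spec

theorem om_ne_zero : om hK ≠ 0 := fun h => by
  have := om_eq hK
  rw [h] at this
  simp at this

theorem om_ne_sq : om hK ≠ om hK ^ 2 := fun h => by
  have h1 := om_eq hK
  rw [← h, add_self hK, zero_add] at h1
  exact one_ne_zero h1

theorem four_cases (t : K) : t = 0 ∨ t = 1 ∨ t = om hK ∨ t = om hK ^ 2 := by
  by_cases h0 : t = 0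
  · exact Or.inl h0
  refine Or.inr ?_
  have h3 := pow_three hK h0
  have e : (t - 1) * ((t - om hK) * (t - om hK ^ 2)) = 0 := by
    linear_combination h3 + (-t ^ 2 + t) * om_eq hK + (t - 1) * (pow_three hK (om_ne_zero hK))
  rcases mul_eq_zero.mp e with e | e
  · exact Or.inl (sub_eq_zero.mp e)
  rcases mul_eq_zero.mp e with e | e
  · exact Or.inr (Or.inl (sub_eq_zero.mp e))
  · exact Or.inr (Or.inr (sub_eq_zero.mp e))

theorem hK2 : Nat.card K = 2 ^ 2 := by rw [hK]; norm_num

/-- The twist. -/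
noncomputable abbrev tw : Twist T6 K :=
  (Twist.E6.setup Nat.prime_two.isPrimePow (hK2 hK)).S

theorem rho_val (r : Fin T6.n) : ((tw hK).ρ r).val = Data.E6.graph.ρ r := rfl

theorem sg_root {r : ℕ} (hr : r < 72) (t : K) :
    (tw hK).sg (T6.xU K r t) = T6.xU K (Data.E6.graph.ρ r) (t ^ 2) := by
  refine ((tw hK).sg_xU ⟨r, hr⟩ t).trans ?_
  show T6.xU K (Data.E6.graph.ρ r) (Data.E6.graph.par r (Twist.E6.fq Nat.prime_two.isPrimePow (hK2 hK) t)) = _
  obtain ⟨-, hε, hl, -⟩ := graph_facts r hr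
  rw [RootMap.par, sign_cast hK hε, one_mul, hl, pow_one, Twist.E6.fq_apply]

theorem conj_gen {a s : ℕ} (ha : a ∈ [42, 37, 29, 34]) (hs : s < 72) (hso : ¬ Orb s) (t u : K) :
    T6.xU K a t * T6.xU K s u * (T6.xU K a t)⁻¹ =
      if T6.pair a s = -1 then T6.xU K s u * T6.xU K (sh a s) (t * u) else T6.xU K s u := by
  have hT := Data.E6.valid
  have hC := Data.E6.chkComm
  have han : a < T6.n := by
    simp only [List.mem_cons, List.not_mem_nil, or_false] at ha
    rcases ha with rfl | rfl | rfl | rfl <;> decide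
  obtain ⟨h1, h2, h3, h4, -⟩ := move_facts a ha s hs hso
  have e := comm_xU hT hC hs han (Ne.symm h1) h2 u t
  by_cases hp : T6.pair a s = -1
  · rw [if_pos hp]
    obtain ⟨hn, -, -, -, -, -, hcom, N, hN, hc⟩ := h4 hp
    rw [hc, List.map_singleton, List.prod_singleton] at e
    have hN' : (N : K) = 1 := sign_cast hK (by simpa using hN)
    simp only [hN', one_mul, pow_one, neg_eq hK] at e
    rw [mul_comm u t] at e
    have hne : a ≠ T6.neg (sh a s) := fun e2 => by
      obtain ⟨-, hno, -⟩ := h4 hp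
      exact (move_facts a ha _ hn hno).2.1 e2
    have hcm : Commute (T6.xU K (sh a s) (t * u)) (T6.xU K a t) :=
      commute_xU hT hC hn han hne (by rw [hcom]; simp) _ _
    rw [e, mul_assoc (T6.xU K s u), ← hcm.eq, ← mul_assoc (T6.xU K s u), mul_inv_cancel_right]
  · rw [if_neg hp]
    rw [h3 hp, List.map_nil, List.prod_nil, mul_one] at e
    rw [e, mul_inv_cancel_right]

end Field

end CfsgLib.Chevalley.TwistE6Five
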